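import Mathlib.Algebra.MvPolynomial.CommRing
import Mathlib.RingTheory.AdjoinRoot
import Mathlib.RingTheory.MvPolynomial.Basic
import Mathlib.RingTheory.Ideal.Quotient.Operations
import Mathlib.LinearAlgebra.Dimension.Free
import Mathlib.LinearAlgebra.Dimension.Constructions
import Mathlib.RingTheory.Finiteness.Cardinality

/-!
# The algebra `R[u_1, …, u_n] / (u_i ^ p - a_i ^ (p-1) u_i - x_i)`
-/

set_option autoImplicit false

universe u v w

open MvPolynomial

namespace Groth.Agent.Lib.WildFam.Basic

variable {R : Type u} [CommRing R] {ι : Type v} (p : ℕ) (a x : ι → R)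

/-- The defining relation. -/
noncomputable abbrev rel (i : ι) : MvPolynomial ι R := X i ^ p - C (a i ^ (p - 1)) * X i - C (x i)

/-- The algebra. -/
abbrev Fam : Type _ := MvPolynomial ι R ⧸ Ideal.span (Set.range (rel p a x))

/-- The classes of the variables. -/
noncomputable abbrev gen (i : ι) : Fam p a x := Ideal.Quotient.mk _ (X i)

lemma gen_rel (i : ι) :
    gen p a x i ^ p - algebraMap R (Fam p a x) (a i ^ (p - 1)) * gen p a x i
      - algebraMap R (Fam p a x) (x i) = 0 :=
  Ideal.Quotient.eq_zero_iff_mem.mpr (Ideal.subset_span ⟨i, rfl⟩)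

variable {p a x}

/-- Universal property. -/
noncomputable def lift {C : Type w} [CommRing C] [Algebra R C] (b : ι → C)
    (hb : ∀ i, b i ^ p - algebraMap R C (a i ^ (p - 1)) * b i - algebraMap R C (x i) = 0) :
    Fam p a x →ₐ[R] C :=
  Ideal.Quotient.liftₐ _ (aeval b) fun f hf => by
    refine RingHom.mem_ker.mp ((Ideal.span_le.mpr ?_) hf : f ∈ RingHom.ker (aeval b))
    rintro _ ⟨i, rfl⟩
    rw [SetLike.mem_coe, RingHom.mem_ker]
    simpa using hb i

@[simp] lemma lift_gen {C : Type w} [CommRing C] [Algebra R C] (b : ι → C) (hb) (i : ι) :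
    lift (p := p) (a := a) (x := x) b hb (gen p a x i) = b i :=
  aeval_X b i

lemma hom_ext {C : Type w} [CommRing C] [Algebra R C] {f g : Fam p a x →ₐ[R] C}
    (h : ∀ i, f (gen p a x i) = g (gen p a x i)) : f = g :=
  Ideal.Quotient.algHom_ext R (MvPolynomial.algHom_ext h)

lemma adjoin_gen : Algebra.adjoin R (Set.range (gen p a x)) = ⊤ := by
  have h : Set.range (gen p a x) = Ideal.Quotient.mkₐ R _ '' Set.range (X : ι → MvPolynomial ι R) := by
    rw [← Set.range_comp]; rfl
  rw [h, ← AlgHom.map_adjoin, MvPolynomial.adjoin_range_X, Algebra.map_top, AlgHom.range_eq_top]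
  exact Ideal.Quotient.mk_surjective

section Free

theorem succ_step {p : ℕ} (hp : 2 ≤ p) {R : Type u} [CommRing R] [Nontrivial R] {n : ℕ}
    (a x : Fin (n + 1) → R) {A' : Type u} [CommRing A'] [Algebra R A'] [Nontrivial A']
    [Module.Free R A'] [Module.Finite R A'] (g : Fin n → A')
    (hg : ∀ i, g i ^ p - algebraMap R A' (a i.succ ^ (p - 1)) * g i
      - algebraMap R A' (x i.succ) = 0)
    (htop : Algebra.adjoin R (Set.range g) = ⊤) (j : A' →ₐ[R] Fam p a x)
    (hj : ∀ i, j (g i) = gen p a x i.succ) :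
    Module.Free R (Fam p a x) ∧ Module.Finite R (Fam p a x) ∧
      Module.finrank R (Fam p a x) = Module.finrank R A' * p := by
  let f : Polynomial A' := Polynomial.X ^ p - (Polynomial.C (algebraMap R A' (a 0 ^ (p - 1))) *
    Polynomial.X + Polynomial.C (algebraMap R A' (x 0)))
  have hlin : (Polynomial.C (algebraMap R A' (a 0 ^ (p - 1))) * Polynomial.X +
      Polynomial.C (algebraMap R A' (x 0))).natDegree < p :=
    lt_of_le_of_lt Polynomial.natDegree_linear_le (by omega)
  have hf : f.Monic := Polynomial.monic_X_pow_sub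
    (lt_of_le_of_lt Polynomial.degree_le_natDegree (by exact_mod_cast hlin))
  have hfdeg : f.natDegree = p := by
    simp only [f]
    rw [Polynomial.natDegree_sub_eq_left_of_natDegree_lt (by rwa [Polynomial.natDegree_X_pow]),
      Polynomial.natDegree_X_pow]
  let b : Fin (n + 1) → AdjoinRoot f :=
    Fin.cases (AdjoinRoot.root f) fun i => AdjoinRoot.of f (g i)
  let Φ : Fam p a x →ₐ[R] AdjoinRoot f := lift b fun i => by
    refine Fin.cases ?_ (fun i => ?_) i
    · have h := AdjoinRoot.eval₂_root f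
      simp only [f, Polynomial.eval₂_sub, Polynomial.eval₂_add, Polynomial.eval₂_mul,
        Polynomial.eval₂_X_pow, Polynomial.eval₂_C, Polynomial.eval₂_X] at h
      simp only [b, Fin.cases_zero, IsScalarTower.algebraMap_apply R A' (AdjoinRoot f), sub_sub]
      exact h
    · have h := congrArg (AdjoinRoot.of f) (hg i)
      simp only [map_sub, map_mul, map_pow, map_zero] at h
      simp only [b, Fin.cases_succ, IsScalarTower.algebraMap_apply R A' (AdjoinRoot f), map_pow]
      exact h
  have hev : f.eval₂ (j : A' →+* Fam p a x) (gen p a x 0) = 0 := by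
    simp only [f, Polynomial.eval₂_sub, Polynomial.eval₂_add, Polynomial.eval₂_mul,
      Polynomial.eval₂_X_pow, Polynomial.eval₂_C, Polynomial.eval₂_X]
    rw [RingHom.coe_coe, AlgHom.commutes, AlgHom.commutes, ← sub_sub]
    exact gen_rel p a x 0
  let Ψ : AdjoinRoot f →ₐ[R] Fam p a x := AdjoinRoot.liftAlgHom f j (gen p a x 0) hev
  have h1 : Ψ.comp Φ = AlgHom.id R _ := hom_ext fun i => by
    refine Fin.cases ?_ (fun i => ?_) i
    · rw [AlgHom.comp_apply, lift_gen, AlgHom.id_apply]
      exact AdjoinRoot.lift_root hev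
    · rw [AlgHom.comp_apply, lift_gen, AlgHom.id_apply]
      exact (AdjoinRoot.lift_of hev).trans (hj i)
  have h2 : Function.Surjective Φ := by
    intro z
    obtain ⟨q, rfl⟩ := AdjoinRoot.mk_surjective (g := f) z
    have hA' : ∀ c : A', AdjoinRoot.of f c ∈ Φ.range := by
      have hle : (⊤ : Subalgebra R A') ≤ Φ.range.comap (IsScalarTower.toAlgHom R A' (AdjoinRoot f)) := by
        rw [← htop, Algebra.adjoin_le_iff]
        rintro _ ⟨i, rfl⟩
        exact ⟨gen p a x i.succ, (lift_gen _ _ _).trans rfl⟩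
      exact fun c => hle (Algebra.mem_top (x := c))
    induction q using Polynomial.induction_on' with
    | add q r hq hr =>
      obtain ⟨q', hq'⟩ := hq; obtain ⟨r', hr'⟩ := hr
      exact ⟨q' + r', by rw [map_add, map_add, hq', hr']⟩
    | monomial m c =>
      obtain ⟨c', hc'⟩ := hA' c
      refine ⟨c' * gen p a x 0 ^ m, ?_⟩
      rw [map_mul, map_pow, show Φ c' = AdjoinRoot.of f c from hc', ← Polynomial.C_mul_X_pow_eq_monomial,
        map_mul, map_pow, AdjoinRoot.mk_C, AdjoinRoot.mk_X]
      simp [Φ, b]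
  let e : Fam p a x ≃ₐ[R] AdjoinRoot f := AlgEquiv.ofBijective Φ
    ⟨fun s t hst => by
      rw [← AlgHom.id_apply (R := R) s, ← AlgHom.id_apply (R := R) t, ← h1,
        AlgHom.comp_apply, AlgHom.comp_apply, hst], h2⟩
  haveI : Module.Free A' (AdjoinRoot f) := hf.free_adjoinRoot
  haveI : Module.Finite A' (AdjoinRoot f) := hf.finite_adjoinRoot
  have hrankB : Module.finrank A' (AdjoinRoot f) = p := by
    rw [show Module.finrank A' (AdjoinRoot f) = (AdjoinRoot.powerBasis' hf).dim from PowerBasis.finrank _,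
      AdjoinRoot.powerBasis'_dim, hfdeg]
  haveI : Module.Free R (AdjoinRoot f) := Module.Free.trans (S := A')
  haveI : Module.Finite R (AdjoinRoot f) := Module.Finite.trans A' (AdjoinRoot f)
  refine ⟨Module.Free.of_equiv e.toLinearEquiv.symm, Module.Finite.equiv e.toLinearEquiv.symm, ?_⟩
  rw [e.toLinearEquiv.finrank_eq, ← Module.finrank_mul_finrank R A' (AdjoinRoot f), hrankB]

theorem free_and_finrank {p : ℕ} (hp : 2 ≤ p) : ∀ (n : ℕ) (R : Type u) [CommRing R] [Nontrivial R]
    (a x : Fin n → R), Module.Free R (Fam p a x) ∧ Module.Finite R (Fam p a x) ∧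
      Module.finrank R (Fam p a x) = p ^ n := by
  intro n
  induction n with
  | zero =>
    intro R _ _ a x
    let e : Fam p a x ≃ₐ[R] R := AlgEquiv.ofAlgHom (lift Fin.elim0 fun i => i.elim0) (Algebra.ofId R _)
      (AlgHom.ext fun r => (lift (p := p) (a := a) (x := x) Fin.elim0 (fun i => i.elim0)).commutes r)
      (hom_ext fun i => i.elim0)
    exact ⟨Module.Free.of_equiv e.toLinearEquiv.symm, Module.Finite.equiv e.toLinearEquiv.symm,
      by rw [e.toLinearEquiv.finrank_eq, Module.finrank_self, pow_zero]⟩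
  | succ n ih =>
    intro R _ _ a x
    obtain ⟨hfree, hfin, hrank⟩ := ih R (fun i : Fin n => a i.succ) (fun i : Fin n => x i.succ)
    haveI := hfree
    haveI := hfin
    haveI : Nontrivial (Fam p (fun i : Fin n => a i.succ) (fun i : Fin n => x i.succ)) :=
      Module.nontrivial_of_finrank_pos (R := R) (by rw [hrank]; exact pow_pos (by omega) n)
    obtain ⟨h1, h2, h3⟩ := succ_step hp a x (gen p (fun i : Fin n => a i.succ) (fun i : Fin n => x i.succ))
      (gen_rel p (fun i : Fin n => a i.succ) (fun i : Fin n => x i.succ)) adjoin_gen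
      (lift (fun i => gen p a x i.succ) fun i => gen_rel p a x i.succ) fun i => lift_gen _ _ i
    exact ⟨h1, h2, by rw [h3, hrank, pow_succ]⟩

end Free

end Groth.Agent.Lib.WildFam.Basic
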