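import Mathlib.RingTheory.PowerSeries.Order
import Mathlib.RingTheory.PowerSeries.Trunc
import Mathlib.RingTheory.PowerSeries.Inverse
import Mathlib.RingTheory.PowerSeries.NoZeroDivisors
import Mathlib.Algebra.CharP.Lemmas
import Mathlib.Algebra.CharP.Algebra

/-!
# The ramification break of an automorphism of order `p` of a power series ring
-/

set_option autoImplicit false

universe u

open PowerSeries

namespace Groth.Agent.Lib.WildFam.Break

variable {p : ℕ} [hp : Fact p.Prime] {k : Type u} [Field k] [CharP k p] (σ : k⟦X⟧ ≃ₐ[k] k⟦X⟧) {m : ℕ}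

theorem not_isUnit_X : ¬ IsUnit (X : k⟦X⟧) := fun h => by
  rw [isUnit_iff_constantCoeff, constantCoeff_X] at h; exact not_isUnit_zero h

/-- A series of order `n` is `X ^ n` times a unit. -/
theorem exists_eq_mul {w : k⟦X⟧} {n : ℕ} (h : w.order = (n : ℕ∞)) :
    ∃ U : k⟦X⟧, IsUnit U ∧ w = X ^ n * U := by
  have hw : w ≠ 0 := fun e => by rw [e, order_zero] at h; exact ENat.top_ne_natCast n h
  obtain ⟨U, hU⟩ := X_pow_dvd_iff.mpr fun i hi => coeff_of_lt_order i (by rw [h]; exact_mod_cast hi)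
  refine ⟨U, isUnit_iff_constantCoeff.mpr (isUnit_iff_ne_zero.mpr fun h0 => ?_), hU⟩
  have h1 := coeff_order hw
  rw [show w.order.toNat = n by rw [h]; rfl, hU, coeff_X_pow_mul', if_pos le_rfl, Nat.sub_self,
    coeff_zero_eq_constantCoeff] at h1
  exact h1 h0

theorem order_mul_unit {U : k⟦X⟧} (hU : IsUnit U) (n : ℕ) : (X ^ n * U).order = (n : ℕ∞) := by
  rw [order_mul, order_X_pow, order_zero_of_unit hU, add_zero]

omit hp [CharP k p] in
/-- The image of `X` is `X` times a unit. -/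
theorem exists_map_X : ∃ e : k⟦X⟧, IsUnit e ∧ σ X = X * e := by
  have hnu : ¬ IsUnit (σ X) := fun h => not_isUnit_X (by simpa using h.map σ.symm)
  obtain ⟨e, he⟩ := X_dvd_iff.mpr (not_not.mp fun h => hnu (isUnit_iff_constantCoeff.mpr (isUnit_iff_ne_zero.mpr h)))
  refine ⟨e, by_contra fun hne => ?_, he⟩
  obtain ⟨e', he'⟩ := X_dvd_iff.mpr (not_not.mp fun h => hne (isUnit_iff_constantCoeff.mpr (isUnit_iff_ne_zero.mpr h)))
  have hsu : ¬ IsUnit (σ.symm X) := fun h => not_isUnit_X (by simpa using h.map σ)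
  obtain ⟨q, hq⟩ := X_dvd_iff.mpr (not_not.mp fun h => hsu (isUnit_iff_constantCoeff.mpr (isUnit_iff_ne_zero.mpr h)))
  have h1 : (X : k⟦X⟧) = σ.symm X * σ.symm X * σ.symm e' := by
    conv_lhs => rw [← σ.symm_apply_apply X, he, he']
    rw [map_mul, map_mul, mul_assoc]
  rw [hq] at h1
  have h2 : (1 : k⟦X⟧) = X * (q * q * σ.symm e') := mul_left_cancel₀ X_ne_zero (by
    rw [mul_one]; conv_lhs => rw [h1]
    ring)
  exact not_isUnit_X (IsUnit.of_mul_eq_one _ h2.symm)

variable (hσp : σ ^ p = 1) (hm : (σ X - X).order = ((m + 1 : ℕ) : ℕ∞))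

include hσp hm in
/-- The break is positive. -/
theorem break_pos : m ≠ 0 := by
  obtain ⟨e, he, hσX⟩ := exists_map_X σ
  intro h0
  subst h0
  have hc : ∀ i : ℕ, ∃ e' : k⟦X⟧, (σ ^ i) X = X * e' ∧ constantCoeff e' = constantCoeff e ^ i := by
    intro i
    induction i with
    | zero => exact ⟨1, by simp, by simp⟩
    | succ i ih =>
      obtain ⟨e', he', hc'⟩ := ih
      refine ⟨e * σ e', ?_, ?_⟩
      · rw [pow_succ', AlgEquiv.mul_apply, he', map_mul, hσX, mul_assoc]
      · rw [map_mul, pow_succ', ← hc']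
        congr 1
        obtain ⟨d, hd⟩ : X ∣ (e' - C (constantCoeff e')) := X_dvd_iff.mpr (by simp)
        have : σ e' = C (constantCoeff e') + σ X * σ d := by
          rw [← map_mul, ← hd, map_sub, show σ (C (constantCoeff e')) = C (constantCoeff e') from σ.commutes _]
          ring
        rw [this, hσX]; simp
  obtain ⟨e', he', hc'⟩ := hc p
  rw [hσp, AlgEquiv.one_apply] at he'
  have h1 : e' = 1 := (mul_left_cancel₀ X_ne_zero (he'.symm.trans (mul_one X).symm))
  rw [h1, map_one] at hc'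
  have h2 : constantCoeff e = 1 := sub_eq_zero.mp (eq_zero_of_pow_eq_zero (n := p)
    (by rw [sub_pow_char, one_pow, ← hc', sub_self]))
  obtain ⟨U, hU, hd⟩ := exists_eq_mul hm
  rw [hσX, zero_add, pow_one] at hd
  have h3 : e - 1 = U := mul_left_cancel₀ X_ne_zero (by rw [mul_sub, mul_one, hd])
  rw [isUnit_iff_constantCoeff, ← h3, map_sub, h2, map_one, sub_self] at hU
  exact not_isUnit_zero hU

include hm in
/-- `σ` is trivial modulo `X ^ (m + 1)`. -/
theorem dvd_sub (f : k⟦X⟧) : X ^ (m + 1) ∣ σ f - f := by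
  obtain ⟨e, -, hσX⟩ := exists_map_X σ
  obtain ⟨U, -, hd⟩ := exists_eq_mul hm
  have hpoly : ∀ q : Polynomial k, X ^ (m + 1) ∣ σ (q : k⟦X⟧) - (q : k⟦X⟧) := by
    intro q
    induction q using Polynomial.induction_on with
    | C c => rw [Polynomial.coe_C, show σ (C c) = C c from σ.commutes c, sub_self]; exact dvd_zero _
    | add a b ha hb => rw [Polynomial.coe_add, map_add, add_sub_add_comm]; exact dvd_add ha hb
    | monomial n c ih =>
      rw [pow_succ (Polynomial.X : Polynomial k) n, ← mul_assoc, Polynomial.coe_mul (Polynomial.C c * Polynomial.X ^ n), Polynomial.coe_X]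
      rw [map_mul, show ∀ a b : k⟦X⟧, σ a * σ b - a * b = (σ a - a) * σ b + a * (σ b - b) from
        fun a b => by ring]
      exact dvd_add (Dvd.dvd.mul_right ih _) (Dvd.dvd.mul_left ⟨U, hd⟩ _)
  obtain ⟨g, hg⟩ : X ^ (m + 1) ∣ f - ((PowerSeries.trunc (m + 1) f : Polynomial k) : k⟦X⟧) :=
    X_pow_dvd_iff.mpr fun i hi => by rw [map_sub, Polynomial.coeff_coe, PowerSeries.coeff_trunc, if_pos hi, sub_self]
  have hf : f = ((PowerSeries.trunc (m + 1) f : Polynomial k) : k⟦X⟧) + X ^ (m + 1) * g := by rw [← hg]; ring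
  rw [hf, map_add, map_mul, map_pow, hσX, add_sub_add_comm, mul_pow, mul_assoc, ← mul_sub]
  exact dvd_add (hpoly _) (dvd_mul_right _ _)

include hσp hm in
/-- `σ - 1` raises an order prime to `p` by the break. -/
theorem order_sub {w : k⟦X⟧} {n : ℕ} (hw : w.order = (n : ℕ∞)) (hn : ¬ p ∣ n) :
    (σ w - w).order = ((n + m : ℕ) : ℕ∞) := by
  obtain ⟨U, hU, hd⟩ := exists_eq_mul hm
  obtain ⟨W, hW, rfl⟩ := exists_eq_mul hw
  obtain ⟨W', hW'⟩ := dvd_sub σ hm W
  have hm0 := break_pos σ hσp hm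
  obtain ⟨e, -, hσX⟩ := exists_map_X σ
  have hσX' : σ X = X + X ^ (m + 1) * U := by rw [← hd]; ring
  obtain ⟨R', hR'⟩ : ∃ R' : k⟦X⟧,
      (1 + X ^ m * U) ^ n = 1 + (n : k⟦X⟧) * (X ^ m * U) + X ^ (m + 1) * R' := by
    clear hw hn
    induction n with
    | zero => exact ⟨0, by simp⟩
    | succ n ih =>
      obtain ⟨R', hR'⟩ := ih
      obtain ⟨q, hq⟩ : ∃ q, (X : k⟦X⟧) ^ m * X ^ m = X ^ (m + 1) * q :=
        ⟨X ^ (m - 1), by rw [← pow_add, ← pow_add]; congr 1; omega⟩
      refine ⟨R' * (1 + X ^ m * U) + (n : k⟦X⟧) * U ^ 2 * q, ?_⟩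
      rw [pow_succ, hR']
      push_cast
      linear_combination (n : k⟦X⟧) * U ^ 2 * hq
  have key : σ (X ^ n * W) - X ^ n * W =
      X ^ (n + m) * ((n : k⟦X⟧) * U * W + X * (R' * W + (1 + X ^ m * U) ^ n * W')) := by
    rw [map_mul, map_pow, hσX', show X + X ^ (m + 1) * U = X * (1 + X ^ m * U) by ring, mul_pow]
    linear_combination (X ^ n * (1 + X ^ m * U) ^ n) * hW' + (X ^ n * W) * hR'
  rw [key]
  refine order_mul_unit (isUnit_iff_constantCoeff.mpr (isUnit_iff_ne_zero.mpr ?_)) _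
  have hnk : (n : k) ≠ 0 := fun h => hn ((CharP.cast_eq_zero_iff k p n).mp h)
  simp only [map_add, map_mul, map_natCast, constantCoeff_X, zero_mul, add_zero]
  exact mul_ne_zero (mul_ne_zero hnk (isUnit_iff_constantCoeff.mp hU).ne_zero)
    (isUnit_iff_constantCoeff.mp hW).ne_zero

include hσp hm in
/-- The order of an invariant series is divisible by `p`. -/
theorem dvd_order_of_fixed {w : k⟦X⟧} {n : ℕ} (hw : w.order = (n : ℕ∞)) (hf : σ w = w) : p ∣ n := by
  by_contra hn
  have := order_sub σ hσp hm hw hn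
  rw [hf, sub_self, order_zero] at this
  exact ENat.top_ne_natCast _ this

/-- The norm of `X`. -/
noncomputable def nm : k⟦X⟧ := ∏ i ∈ Finset.range p, (σ ^ i) X

omit hp [CharP k p] in
include hσp in
theorem map_nm : σ (nm (p := p) σ) = nm (p := p) σ := by
  rw [nm, map_prod]
  rcases p with _ | q
  · simp
  rw [Finset.prod_range_succ, Finset.prod_range_succ' (fun i => (σ ^ i) X)]
  congr 1
  · exact Finset.prod_congr rfl fun i _ => by rw [pow_succ', AlgEquiv.mul_apply]
  · rw [← AlgEquiv.mul_apply, ← pow_succ', hσp, pow_zero]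

omit hp [CharP k p] in
theorem order_nm : (nm (p := p) σ).order = (p : ℕ∞) := by
  rw [nm, PowerSeries.order_prod, Finset.sum_congr rfl fun i _ => ?_, Finset.sum_const, Finset.card_range,
    nsmul_one]
  obtain ⟨e, he, h⟩ := exists_map_X (σ ^ i)
  rw [h, ← pow_one (X : k⟦X⟧)]
  exact order_mul_unit he 1

include hσp hm in
/-- When `p` divides `m + 1` some uniformiser moves by an invariant amount. -/
theorem exists_uniformizer {l : ℕ} (hl : m + 1 = p * l) :
    ∃ s a : k⟦X⟧, s.order = 1 ∧ σ a = a ∧ σ s = s + a := by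
  let D : k⟦X⟧ →ₗ[k] k⟦X⟧ := σ.toLinearMap - 1
  have hD : ∀ w, D w = σ w - w := fun _ => rfl
  have hord : ∀ j, j ≤ p - 2 → ((D ^ j) (X ^ (p - 1))).order = ((p - 1 + j * m : ℕ) : ℕ∞) := by
    intro j
    induction j with
    | zero => intro _; rw [pow_zero, Module.End.one_apply, order_X_pow, zero_mul, add_zero]
    | succ j ih =>
      intro hj
      rw [pow_succ', Module.End.mul_apply, hD, order_sub σ hσp hm (ih (by omega)) ?_]
      · congr 1; ring
      · intro hdvd
        -- `p - 1 + j m ≡ - (1 + j)`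
        have h1 : p ∣ j + 1 := by
          have h3 : p - 1 + j * m + (j + 1) = p + j * (p * l) := by
            rw [← hl]; have := hp.out.two_le; rw [mul_add, mul_one]; omega
          exact (Nat.dvd_add_right hdvd).mp (h3 ▸ dvd_add dvd_rfl (dvd_mul_of_dvd_right (dvd_mul_right p l) j))
        exact absurd (Nat.le_of_dvd (by omega) h1) (by omega)
  obtain ⟨U, hU, hs⟩ := exists_eq_mul (hord (p - 2) le_rfl)
  obtain ⟨V, hV, hx⟩ := exists_eq_mul (order_nm (p := p) σ)
  obtain ⟨q, hq⟩ : ∃ q, p = q + 2 := ⟨p - 2, by have := hp.out.two_le; omega⟩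
  have hexp : p - 1 + (p - 2) * m = p * (q * l) + 1 := by
    rw [hq] at hl ⊢
    simp only [Nat.add_sub_cancel]
    have : q * m + q = (q + 2) * (q * l) := by
      calc q * m + q = q * (m + 1) := by ring
        _ = _ := by rw [hl]; ring
    omega
  let s : k⟦X⟧ := X * U * Units.val ((hV.pow (q * l)).unit⁻¹)
  have hsx : s * nm (p := p) σ ^ (q * l) = (D ^ (p - 2)) (X ^ (p - 1)) := by
    rw [hs, hexp, hx, mul_pow, ← pow_mul, pow_succ]
    simp only [s]
    linear_combination (X * U * X ^ (p * (q * l))) * (hV.pow (q * l)).val_inv_mul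
  have hne : nm (p := p) σ ^ (q * l) ≠ 0 := pow_ne_zero _ fun e => by
    have := order_nm (p := p) σ; rw [e, order_zero] at this; exact ENat.top_ne_natCast _ this
  have hinv : σ (D ((D ^ (p - 2)) (X ^ (p - 1)))) = D ((D ^ (p - 2)) (X ^ (p - 1))) := by
    rw [← sub_eq_zero, ← hD, ← Module.End.mul_apply, ← pow_two, ← Module.End.mul_apply, ← pow_add,
      show 2 + (p - 2) = p by omega]
    have : CharP (Module.End k k⟦X⟧) p :=
      charP_of_injective_algebraMap (algebraMap k (Module.End k k⟦X⟧)).injective p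
    have hpow : (σ.toLinearMap : Module.End k k⟦X⟧) ^ p = 1 := by
      refine LinearMap.ext fun w => ?_
      have h : ∀ j : ℕ, ((σ.toLinearMap : Module.End k k⟦X⟧) ^ j) w = (σ ^ j) w := by
        intro j
        induction j with
        | zero => rfl
        | succ j ih => rw [pow_succ', pow_succ', Module.End.mul_apply, ih]; rfl
      rw [h, hσp]; rfl
    simp only [D]
    rw [sub_pow_char_of_commute p (Commute.one_right _), hpow, one_pow, sub_self, LinearMap.zero_apply]
  refine ⟨s, σ s - s, ?_, ?_, by ring⟩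
  · simp only [s]
    rw [mul_assoc, ← pow_one (X : k⟦X⟧)]
    exact order_mul_unit (hU.mul (Units.isUnit _)) 1
  · refine mul_right_cancel₀ hne ?_
    have h1 : D ((D ^ (p - 2)) (X ^ (p - 1))) = (σ s - s) * nm (p := p) σ ^ (q * l) := by
      rw [hD, ← hsx, map_mul, map_pow, map_nm σ hσp]; ring
    rw [h1, map_mul, map_pow, map_nm σ hσp] at hinv
    exact hinv

include hσp hm in
/-- An integral Artin–Schreier generator with conductor `μ` prime to `p` forces `μ = m`. -/
theorem conductor_eq {f w : k⟦X⟧} (hfσ : σ f = f) (hf : IsUnit f) {μ : ℕ} (hμ : 0 < μ) (hpμ : ¬ p ∣ μ)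
    (hw : w ^ p - nm (p := p) σ ^ (μ * (p - 1)) * w = f * nm (p := p) σ ^ (μ * (p - 1))) : μ = m := by
  obtain ⟨q, hq⟩ : ∃ q, p = q + 2 := ⟨p - 2, by have := hp.out.two_le; omega⟩
  have hx0 : nm (p := p) σ ≠ 0 := fun e => by
    have := order_nm (p := p) σ; rw [e, order_zero] at this; exact ENat.top_ne_natCast _ this
  have hE : (nm (p := p) σ ^ (μ * (p - 1))).order = ((p * (μ * (p - 1)) : ℕ) : ℕ∞) := by
    rw [order_pow, order_nm]; push_cast; rw [nsmul_eq_mul]; push_cast; ring
  have hR : (f * nm (p := p) σ ^ (μ * (p - 1))).order = ((p * (μ * (p - 1)) : ℕ) : ℕ∞) := by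
    rw [order_mul, order_zero_of_unit hf, hE, zero_add]
  have hw0 : w ≠ 0 := fun e => by
    rw [e, zero_pow hp.out.ne_zero, mul_zero, sub_zero] at hw
    rw [← hw, order_zero] at hR; exact ENat.top_ne_natCast _ hR
  obtain ⟨v, hv⟩ : ∃ v : ℕ, w.order = (v : ℕ∞) := ⟨_, (coe_toNat_order hw0).symm⟩
  have h1 : (w ^ p).order = ((p * v : ℕ) : ℕ∞) := by rw [order_pow, hv, nsmul_eq_mul]; push_cast; rfl
  have h2 : (-(nm (p := p) σ ^ (μ * (p - 1)) * w)).order = ((p * (μ * (p - 1)) + v : ℕ) : ℕ∞) := by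
    rw [order_neg, order_mul, hE, hv]; push_cast; rfl
  rw [sub_eq_add_neg] at hw
  have hv' : v = μ * (p - 1) := by
    by_cases hlt : v < p * μ
    · have hne : p * v < p * (μ * (p - 1)) + v := by
        have : (p - 1) * v < (p - 1) * (p * μ) := Nat.mul_lt_mul_of_pos_left hlt (by omega)
        subst hq
        rw [show q + 2 - 1 = q + 1 by omega] at this ⊢
        calc (q + 2) * v = (q + 1) * v + v := by ring
          _ < (q + 1) * ((q + 2) * μ) + v := by omega
          _ = _ := by ring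
      have h3 := order_add_of_order_ne (w ^ p) (-(nm (p := p) σ ^ (μ * (p - 1)) * w))
        (by rw [h1, h2]; exact_mod_cast hne.ne)
      rw [hw, hR, h1, h2, min_eq_left (by exact_mod_cast hne.le)] at h3
      have h4 : p * (μ * (p - 1)) = p * v := by exact_mod_cast h3
      exact (Nat.eq_of_mul_eq_mul_left hp.out.pos h4).symm
    · exfalso
      have h3 := min_order_le_order_add (w ^ p) (-(nm (p := p) σ ^ (μ * (p - 1)) * w))
      rw [hw, hR, h1, h2, min_le_iff] at h3
      have h4 : p * v ≤ p * (μ * (p - 1)) ∨ p * (μ * (p - 1)) + v ≤ p * (μ * (p - 1)) := by exact_mod_cast h3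
      have h5 : p * μ * p ≤ p * v := by rw [mul_comm (p * μ)]; exact Nat.mul_le_mul_left _ (by omega)
      have h6 : p * μ * p = p * (μ * (p - 1)) + p * μ := by
        subst hq; rw [show q + 2 - 1 = q + 1 by omega]; ring
      have h7 : 0 < p * μ := Nat.mul_pos hp.out.pos hμ
      omega
  have hnv : ¬ p ∣ v := fun hd => by
    rw [hv'] at hd
    rcases (Nat.Prime.dvd_mul hp.out).mp hd with h | h
    · exact hpμ h
    · exact absurd (Nat.le_of_dvd (by omega) h) (by omega)
  have hd := order_sub σ hσp hm hv hnv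
  have hd0 : σ w - w ≠ 0 := fun e => by rw [e, order_zero] at hd; exact ENat.top_ne_natCast _ hd
  have hroot : (σ w - w) ^ (p - 1) * (σ w - w) = nm (p := p) σ ^ (μ * (p - 1)) * (σ w - w) := by
    have : CharP k⟦X⟧ p := charP_of_injective_algebraMap (algebraMap k k⟦X⟧).injective p
    rw [← pow_succ, show p - 1 + 1 = p by omega, sub_pow_char]
    have h3 := congrArg σ hw
    rw [map_add, map_neg, map_mul, map_mul, map_pow, map_pow, map_nm σ hσp, hfσ] at h3
    linear_combination h3 - hw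
  have h4 := congrArg PowerSeries.order (mul_right_cancel₀ hd0 hroot)
  rw [order_pow, hd, hE, nsmul_eq_mul] at h4
  have h5 : (p - 1) * (v + m) = p * (μ * (p - 1)) := by exact_mod_cast h4
  have h6 : v + m = p * μ := Nat.eq_of_mul_eq_mul_left (show 0 < p - 1 by omega) (by rw [h5]; ring)
  subst hq
  rw [hv', show q + 2 - 1 = q + 1 by omega] at h6
  have : μ * (q + 1) + μ = (q + 2) * μ := by ring
  omega

end Groth.Agent.Lib.WildFam.Break
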