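import Groth.Agent.Lib.WildFam.Local
import Groth.Agent.Lib.Regular.UFD
import Groth.Agent.Lib.WildAS.Root
import Mathlib.FieldTheory.Galois.Basic
import Mathlib.LinearAlgebra.Dimension.Localization
import Mathlib.RingTheory.DedekindDomain.IntegralClosure
import Mathlib.RingTheory.Localization.BaseChange
import Mathlib.RingTheory.Algebraic.Basic

/-!
# Automorphisms of the Artin–Schreier family
-/

set_option autoImplicit false

universe u v

open IsLocalRing

namespace Groth.Agent.Lib.WildFam.Galois

open Groth.Agent.Lib.WildFam.Basic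

variable {R : Type u} [CommRing R] {ι : Type v} {p : ℕ} [hp : Fact p.Prime] {a x : ι → R}
  [CharP (Fam p a x) p]

/-- an element of the prime field inside `Fam` -/
noncomputable abbrev cst (c : ZMod p) : Fam p a x := ZMod.castHom (dvd_refl p) (Fam p a x) c

lemma translate_rel (ν : ι → ZMod p) (i : ι) :
    (gen p a x i + cst (ν i) * algebraMap R (Fam p a x) (a i)) ^ p
      - algebraMap R (Fam p a x) (a i ^ (p - 1)) *
        (gen p a x i + cst (ν i) * algebraMap R (Fam p a x) (a i))
      - algebraMap R (Fam p a x) (x i) = 0 := by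
  have h := gen_rel p a x i
  have hc : cst (a := a) (x := x) (ν i) ^ p = cst (ν i) := by rw [cst, ← map_pow, ZMod.pow_card]
  have hpow : algebraMap R (Fam p a x) (a i) ^ p =
      algebraMap R (Fam p a x) (a i ^ (p - 1)) * algebraMap R (Fam p a x) (a i) := by
    rw [map_pow, ← pow_succ, Nat.sub_add_cancel hp.out.one_le]
  rw [add_pow_char, mul_pow, hc, hpow]
  linear_combination h

/-- translation -/
noncomputable def transHom (ν : ι → ZMod p) : Fam p a x →ₐ[R] Fam p a x :=
  lift (fun i => gen p a x i + cst (ν i) * algebraMap R (Fam p a x) (a i)) (translate_rel ν)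

lemma transHom_gen (ν : ι → ZMod p) (i : ι) :
    transHom ν (gen p a x i) = gen p a x i + cst (ν i) * algebraMap R (Fam p a x) (a i) :=
  lift_gen _ _ i

lemma map_cst (f : Fam p a x →ₐ[R] Fam p a x) (c : ZMod p) : f (cst c) = cst c :=
  RingHom.congr_fun (Subsingleton.elim (f.toRingHom.comp (ZMod.castHom (dvd_refl p) (Fam p a x)))
    (ZMod.castHom (dvd_refl p) (Fam p a x))) c

lemma transHom_add (ν μ : ι → ZMod p) :
    (transHom (a := a) (x := x) ν).comp (transHom μ) = transHom (ν + μ) := by
  refine AlgHom.ext_of_adjoin_eq_top (adjoin_gen (p := p) (a := a) (x := x)) ?_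
  rintro _ ⟨i, rfl⟩
  rw [AlgHom.comp_apply, transHom_gen, transHom_gen, map_add, map_mul, transHom_gen, map_cst,
    AlgHom.commutes, Pi.add_apply, cst, cst, cst, map_add]
  ring

lemma transHom_zero : transHom (a := a) (x := x) (0 : ι → ZMod p) = AlgHom.id R _ := by
  refine AlgHom.ext_of_adjoin_eq_top (adjoin_gen (p := p) (a := a) (x := x)) ?_
  rintro _ ⟨i, rfl⟩
  rw [transHom_gen, Pi.zero_apply, cst, map_zero, zero_mul, add_zero]
  rfl

/-- translations as automorphisms -/
noncomputable def trans : Multiplicative (ι → ZMod p) →* (Fam p a x ≃ₐ[R] Fam p a x) where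
  toFun ν := AlgEquiv.ofAlgHom (transHom ν.toAdd) (transHom (-ν.toAdd))
    (by rw [transHom_add, add_neg_cancel, transHom_zero])
    (by rw [transHom_add, neg_add_cancel, transHom_zero])
  map_one' := AlgEquiv.ext fun t => AlgHom.congr_fun (transHom_zero (a := a) (x := x)) t
  map_mul' ν μ := AlgEquiv.ext fun t =>
    (AlgHom.congr_fun (transHom_add (a := a) (x := x) ν.toAdd μ.toAdd) t).symm

lemma trans_gen (ν : ι → ZMod p) (i : ι) :
    trans (Multiplicative.ofAdd ν) (gen p a x i) = gen p a x i + cst (ν i) * algebraMap R (Fam p a x) (a i) :=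
  transHom_gen ν i

theorem trans_bijective [IsDomain (Fam p a x)] (ha : ∀ i, algebraMap R (Fam p a x) (a i) ≠ 0) :
    Function.Bijective (trans (R := R) (ι := ι) (a := a) (x := x) (p := p)) := by
  refine ⟨fun ν μ h => ?_, fun σ => ?_⟩
  · refine Multiplicative.toAdd.injective (funext fun i => ?_)
    have h1 := AlgEquiv.congr_fun h (gen p a x i)
    rw [← ofAdd_toAdd ν, ← ofAdd_toAdd μ, trans_gen, trans_gen, add_right_inj] at h1
    exact (ZMod.castHom (dvd_refl p) (Fam p a x)).injective (mul_right_cancel₀ (ha i) h1)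
  · have h : ∀ i, ∃ c : ZMod p, σ (gen p a x i) = gen p a x i + cst c * algebraMap R _ (a i) := by
      intro i
      let f : Polynomial (Fam p a x) := Polynomial.X ^ p -
        (Polynomial.C (algebraMap R _ (a i ^ (p - 1))) * Polynomial.X + Polynomial.C (algebraMap R _ (x i)))
      have hlin : (Polynomial.C (algebraMap R (Fam p a x) (a i ^ (p - 1))) * Polynomial.X +
          Polynomial.C (algebraMap R _ (x i))).natDegree < p :=
        lt_of_le_of_lt Polynomial.natDegree_linear_le hp.out.one_lt
      have hf : f.Monic := Polynomial.monic_X_pow_sub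
        (lt_of_le_of_lt Polynomial.degree_le_natDegree (by exact_mod_cast hlin))
      have heval : ∀ y, f.eval y = y ^ p - algebraMap R _ (a i ^ (p - 1)) * y - algebraMap R _ (x i) := fun y => by
        simp only [f, Polynomial.eval_sub, Polynomial.eval_add, Polynomial.eval_mul, Polynomial.eval_pow,
          Polynomial.eval_X, Polynomial.eval_C]
        ring
      refine Groth.Agent.Lib.WildAS.Root.mem_of_root
        (fun c : ZMod p => gen p a x i + cst c * algebraMap R _ (a i))
        (fun c d e => (ZMod.castHom (dvd_refl p) (Fam p a x)).injective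
          (mul_right_cancel₀ (ha i) (add_left_cancel e))) f hf.ne_zero ?_ (fun c => ?_) ?_
      · rw [ZMod.card]
        refine (Polynomial.natDegree_sub_le _ _).trans (max_le (Polynomial.natDegree_X_pow p).le hlin.le)
      · rw [heval]
        exact translate_rel (fun _ => c) i
      · rw [heval]
        have h := congrArg σ (gen_rel p a x i)
        simpa using h
    choose ν hν using h
    refine ⟨Multiplicative.ofAdd ν, AlgEquiv.coe_toAlgHom_injective
      (AlgHom.ext_of_adjoin_eq_top (adjoin_gen (p := p) (a := a) (x := x)) ?_)⟩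
    rintro _ ⟨i, rfl⟩
    exact (trans_gen ν i).trans (hν i).symm

/-- The translations have only the base as common fixed elements. -/
theorem fixed_iff {R : Type u} [CommRing R] [IsRegularLocalRing R] {n : ℕ} {a x : Fin n → R}
    [CharP (Fam p a x) p] [IsDomain (Fam p a x)] (ha : ∀ i, algebraMap R (Fam p a x) (a i) ≠ 0)
    [FaithfulSMul R (Fam p a x)] [IsIntegrallyClosed (Fam p a x)] (t : Fam p a x) :
    (∀ σ : Fam p a x ≃ₐ[R] Fam p a x, σ t = t) ↔ t ∈ Set.range (algebraMap R (Fam p a x)) := by
  refine ⟨fun h => ?_, fun ⟨r, hr⟩ σ => hr ▸ σ.commutes r⟩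
  obtain ⟨hfree, hfin, hrk⟩ := free_and_finrank hp.out.two_le n R a x
  haveI := Groth.Agent.Lib.Regular.Quotient.isDomain R
  haveI := Groth.Agent.Lib.Regular.UFD.isIntegrallyClosed R
  let A := Fam p a x
  let FR := FractionRing R
  let K := FractionRing A
  letI : Algebra FR K := FractionRing.liftAlgebra R (FractionRing A)
  haveI : Algebra.IsIntegral R A := Algebra.IsIntegral.of_finite R A
  haveI : IsIntegralClosure A R K := IsIntegralClosure.of_isIntegrallyClosed A R K
  haveI : Algebra.IsAlgebraic FR K := ⟨fun z => by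
    obtain ⟨b, d, hd, rfl⟩ := IsFractionRing.div_surjective A z
    have h : ∀ s : A, IsAlgebraic FR (algebraMap A K s) := fun s =>
      (((Algebra.IsIntegral.isIntegral (R := R) s).map (IsScalarTower.toAlgHom R A K)).tower_top).isAlgebraic
    exact (h b).mul (h d).inv⟩
  haveI : IsLocalization (Algebra.algebraMapSubmonoid A (nonZeroDivisors R)) K :=
    IsIntegralClosure.isLocalization R FR K A
  haveI : IsLocalizedModule (nonZeroDivisors R) (IsScalarTower.toAlgHom R A K).toLinearMap :=
    isLocalizedModule_iff_isLocalization.mpr ‹_›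
  have hrank : Module.finrank FR K = p ^ n :=
    ((IsLocalization.finrank_eq FR (nonZeroDivisors R) le_rfl).trans
      (IsLocalizedModule.finrank_eq (nonZeroDivisors R) (IsScalarTower.toAlgHom R A K).toLinearMap le_rfl)).trans hrk
  haveI : Module.Finite FR K := Module.Finite.of_isLocalizedModule (S := nonZeroDivisors R)
    (Rₚ := FR) (IsScalarTower.toAlgHom R A K).toLinearMap
  let up : (A ≃ₐ[R] A) → (K ≃ₐ[FR] K) := IsFractionRing.fieldEquivOfAlgEquivHom FR K
  have hup : Function.Injective up := IsFractionRing.fieldEquivOfAlgEquivHom_injective R A FR K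
  have hcardA : Nat.card (A ≃ₐ[R] A) = p ^ n := by
    rw [← Nat.card_congr (Equiv.ofBijective _ (trans_bijective (R := R) (a := a) (x := x) ha))]
    simp [Nat.card_eq_fintype_card]
  have hle : Nat.card (K ≃ₐ[FR] K) ≤ p ^ n := by
    rw [← hrank, Nat.card_eq_fintype_card]
    exact AlgEquiv.card_le
  have hge := Nat.card_le_card_of_injective up hup
  rw [hcardA] at hge
  haveI : Finite (A ≃ₐ[R] A) := Finite.of_injective up hup
  have hbij : Function.Bijective up :=
    (Nat.bijective_iff_injective_and_card up).mpr ⟨hup, by rw [hcardA]; omega⟩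
  haveI : IsGalois FR K := IsGalois.of_card_aut_eq_finrank FR K (by omega)
  obtain ⟨c, hc⟩ := (IsGalois.mem_range_algebraMap_iff_fixed (F := FR) (E := K) (algebraMap A K t)).mpr
    fun f => by
      obtain ⟨σ, rfl⟩ := hbij.2 f
      change IsFractionRing.fieldEquivOfAlgEquiv FR K K σ (algebraMap A K t) = _
      rw [IsFractionRing.fieldEquivOfAlgEquiv_algebraMap, h σ]
  have hci : IsIntegral R c := by
    refine (isIntegral_algebraMap_iff (R := R) (algebraMap FR K).injective).mp ?_
    rw [hc]
    exact (Algebra.IsIntegral.isIntegral (R := R) t).algebraMap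
  obtain ⟨r, hr⟩ := IsIntegrallyClosed.isIntegral_iff.mp hci
  refine ⟨r, IsFractionRing.injective A K ?_⟩
  rw [← hc, ← hr, ← IsScalarTower.algebraMap_apply, ← IsScalarTower.algebraMap_apply]

end Groth.Agent.Lib.WildFam.Galois
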