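import Groth.Agent.Lib.WildFam.MinorCI
import Mathlib.RingTheory.UniqueFactorizationDomain.Basic

/-!
# The rank one quotients of the Artin–Schreier family
-/

set_option autoImplicit false
set_option maxHeartbeats 1000000

universe u v

namespace Groth.Agent.Lib.WildFam.Linear

open Groth.Agent.Lib.WildFam.Minor

/-- Cancelling a family of factors without common prime divisor. -/
theorem dvd_of_forall_dvd_mul {R : Type u} [CommRing R] [IsDomain R] [UniqueFactorizationMonoid R]
    {ι : Type*} {S : Set ι} (y : ι → R) (hy : ∀ π : R, Prime π → ∃ i ∈ S, ¬ π ∣ y i) :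
    ∀ r x : R, r ≠ 0 → (∀ i ∈ S, r ∣ x * y i) → r ∣ x := by
  intro r
  induction r using UniqueFactorizationMonoid.induction_on_prime with
  | h₁ => intro x h; exact absurd rfl h
  | h₂ r hr => intro x _ _; exact hr.dvd
  | h₃ r π hr hπ ih =>
    intro x _ h
    obtain ⟨i, hi, hπy⟩ := hy π hπ
    obtain ⟨x', rfl⟩ := (hπ.dvd_or_dvd ((dvd_mul_right π r).trans (h i hi))).resolve_right hπy
    refine mul_dvd_mul_left π (ih x' hr fun j hj => ?_)
    have := h j hj
    rwa [mul_assoc, mul_dvd_mul_iff_left hπ.ne_zero] at this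

section Mono

variable {R : Type u} [CommRing R] {A : Type v} [CommRing A] [Algebra R A] {ι : Type*} [Fintype ι]
  [DecidableEq ι] {p : ℕ}

theorem mon_update (w : ι → A) (e : ι → Fin p) (i : ι) (l : Fin p) :
    mon w (Function.update e i l) = w i ^ (l : ℕ) * ∏ j ∈ Finset.univ.erase i, w j ^ (e j : ℕ) := by
  rw [mon, ← Finset.mul_prod_erase Finset.univ _ (Finset.mem_univ i), Function.update_self]
  congr 1
  exact Finset.prod_congr rfl fun j hj => by rw [Function.update_of_ne (Finset.ne_of_mem_erase hj)]

theorem mon_mul (w : ι → A) (e : ι → Fin p) (i : ι) (h : (e i : ℕ) + 1 < p) :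
    mon w e * w i = mon w (Function.update e i ⟨_, h⟩) := by
  rw [mon_update, pow_succ, mul_right_comm, ← mon_update, Function.update_eq_self]

/-- The powers below `p` of a linear combination of the variables. -/
theorem pow_sum_eq [NeZero p] (w : ι → A) (c : ι → R) (i : ι) :
    ∀ k : ℕ, (hk : k < p) → ∃ rest ∈ Submodule.span R (mon (p := p) w ''
        {e : ι → Fin p | (∑ j, (e j : ℕ)) = k ∧ e ≠ Function.update (0 : ι → Fin p) i ⟨k, hk⟩}),
      (∑ j, c j • w j) ^ k = c i ^ k • mon (p := p) w (Function.update (0 : ι → Fin p) i ⟨k, hk⟩) + rest := by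
  intro k
  induction k with
  | zero =>
    intro hk
    refine ⟨0, zero_mem _, ?_⟩
    rw [pow_zero, pow_zero, one_smul, add_zero, mon_update, Fin.val_mk, pow_zero, one_mul,
      Finset.prod_eq_one fun j _ => by rw [Pi.zero_apply, Fin.val_zero, pow_zero]]
  | succ k ih =>
    intro hk
    obtain ⟨rest, hrest, heq⟩ := ih (by omega)
    let P : Set (ι → Fin p) :=
      {e | (∑ j, (e j : ℕ)) = k + 1 ∧ e ≠ Function.update (0 : ι → Fin p) i ⟨k + 1, hk⟩}
    have hlt : ∀ (e : ι → Fin p) (j : ι), (∑ l, (e l : ℕ)) = k → (e j : ℕ) + 1 < p := fun e j he => by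
      have := Finset.single_le_sum (f := fun l => (e l : ℕ)) (fun _ _ => Nat.zero_le _) (Finset.mem_univ j)
      omega
    have hdeg : ∀ (e : ι → Fin p) (j : ι) (he : (∑ l, (e l : ℕ)) = k),
        (∑ l, (Function.update e j ⟨_, hlt e j he⟩ l : ℕ)) = k + 1 := fun e j he => by
      rw [← Finset.add_sum_erase _ _ (Finset.mem_univ j)] at he ⊢
      rw [Function.update_self, Finset.sum_congr rfl fun l hl => by
        rw [Function.update_of_ne (Finset.ne_of_mem_erase hl)]]
      simp only [Fin.val_mk] at he ⊢
      omega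
    have hstep : ∀ (e : ι → Fin p), (∑ l, (e l : ℕ)) = k → ∀ j,
        (e ≠ Function.update (0 : ι → Fin p) i ⟨k, by omega⟩ ∨ j ≠ i) →
        mon w e * w j ∈ Submodule.span R (mon (p := p) w '' P) := by
      intro e he j hne
      rw [mon_mul w e j (hlt e j he)]
      refine Submodule.subset_span ⟨_, ⟨hdeg e j he, fun h => ?_⟩, rfl⟩
      have hj : j = i := by
        by_contra hji
        have := congrFun h j
        rw [Function.update_self, Function.update_of_ne hji, Pi.zero_apply, Fin.ext_iff] at this
        simp at this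
      subst hj
      rcases hne with hne | hne
      · refine hne (funext fun l => ?_)
        by_cases hl : l = j
        · subst hl
          have := congrFun h l
          rw [Function.update_self, Function.update_self, Fin.ext_iff] at this
          rw [Function.update_self, Fin.ext_iff]
          simp only [Fin.val_mk] at this ⊢
          omega
        · have := congrFun h l
          rw [Function.update_of_ne hl, Function.update_of_ne hl] at this
          rw [Function.update_of_ne hl]
          exact this
      · exact hne rfl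
    have hsum : (∑ l, (Function.update (0 : ι → Fin p) i ⟨k, by omega⟩ l : ℕ)) = k := by
      rw [← Finset.add_sum_erase _ _ (Finset.mem_univ i), Function.update_self,
        Finset.sum_eq_zero fun l hl => by
          rw [Function.update_of_ne (Finset.ne_of_mem_erase hl), Pi.zero_apply, Fin.val_zero]]
      rfl
    have hrestmul : ∀ j, rest * w j ∈ Submodule.span R (mon (p := p) w '' P) := by
      intro j
      clear heq
      induction hrest using Submodule.span_induction with
      | zero => rw [zero_mul]; exact zero_mem _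
      | add x y _ _ hx hy => rw [add_mul]; exact add_mem hx hy
      | smul r x _ hx => rw [smul_mul_assoc]; exact Submodule.smul_mem _ r hx
      | mem x hx =>
        obtain ⟨e, ⟨he, hne⟩, rfl⟩ := hx
        exact hstep e he j (Or.inl hne)
    let e₀ : ι → Fin p := Function.update (0 : ι → Fin p) i ⟨k, by omega⟩
    have hmain : mon w e₀ * w i = mon (p := p) w (Function.update (0 : ι → Fin p) i ⟨k + 1, hk⟩) := by
      rw [mon_mul w e₀ i (hlt e₀ i hsum), Function.update_idem]
      congr 2
      simp [e₀]
    refine ⟨c i ^ k • mon w e₀ * ∑ j ∈ Finset.univ.erase i, c j • w j + rest * ∑ j, c j • w j,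
      add_mem ?_ ?_, ?_⟩
    · rw [Finset.mul_sum]
      refine sum_mem fun j hj => ?_
      rw [smul_mul_assoc, mul_smul_comm]
      exact Submodule.smul_mem _ _ (Submodule.smul_mem _ _
        (hstep e₀ hsum j (Or.inr (Finset.ne_of_mem_erase hj))))
    · rw [Finset.mul_sum]
      exact sum_mem fun j _ => by rw [mul_smul_comm]; exact Submodule.smul_mem _ _ (hrestmul j)
    · rw [pow_succ, heq, add_mul, ← add_assoc]
      congr 1
      rw [← Finset.add_sum_erase _ _ (Finset.mem_univ i), mul_add, smul_mul_smul_comm, hmain, ← pow_succ]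

/-- An element fixed by a translation of one variable does not involve it. -/
theorem coeff_eq_zero_of_fixed [IsDomain R] [CharP R p] (w : ι → A)
    (hli : LinearIndependent R (mon (p := p) w)) (σ : A →ₐ[R] A) (j : ι) (b : R) (hb : b ≠ 0)
    (hσj : σ (w j) = w j + algebraMap R A b) (hσ : ∀ l, l ≠ j → σ (w l) = w l)
    (r : (ι → Fin p) → R) (hfix : σ (∑ e, r e • mon w e) = ∑ e, r e • mon w e) :
    ∀ e, r e ≠ 0 → (e j : ℕ) = 0 := by
  classical
  by_contra hc
  push Not at hc
  let T := Finset.univ.filter fun e => r e ≠ 0 ∧ (e j : ℕ) ≠ 0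
  obtain ⟨e₁, he₁, hmax⟩ := T.exists_max_image (fun e => (e j : ℕ))
    (by obtain ⟨e, h1, h2⟩ := hc; exact ⟨e, Finset.mem_filter.mpr ⟨Finset.mem_univ _, h1, h2⟩⟩)
  obtain ⟨hr₁, hk₁⟩ := (Finset.mem_filter.mp he₁).2
  let g : (ι → Fin p) × Fin p → R := fun el =>
    if (el.2 : ℕ) < (el.1 j : ℕ) then r el.1 * (((el.1 j : ℕ).choose el.2 : R) * b ^ ((el.1 j : ℕ) - el.2)) else 0
  have hexp : ∀ e : ι → Fin p, σ (r e • mon w e) = r e • mon w e +
      ∑ l : Fin p, g (e, l) • mon w (Function.update e j l) := by
    intro e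
    have hrest : σ (∏ l ∈ Finset.univ.erase j, w l ^ (e l : ℕ)) = ∏ l ∈ Finset.univ.erase j, w l ^ (e l : ℕ) := by
      rw [map_prod]
      exact Finset.prod_congr rfl fun l hl => by rw [map_pow, hσ l (Finset.ne_of_mem_erase hl)]
    conv_lhs => rw [map_smul, ← Function.update_eq_self j e, mon_update, map_mul, map_pow, hσj, hrest,
      Function.update_eq_self, add_pow, Finset.sum_mul, Finset.sum_range_succ, smul_add, Finset.smul_sum]
    rw [add_comm]
    congr 1
    · rw [Nat.sub_self, pow_zero, mul_one, Nat.choose_self, Nat.cast_one, mul_one, ← mon_update,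
        Function.update_eq_self]
    · rw [← Fin.sum_univ_eq_sum_range]
      refine (Finset.sum_bij_ne_zero (s := Finset.univ) (t := Finset.univ)
        (fun (l : Fin (e j : ℕ)) _ _ => (⟨l, l.2.trans (e j).2⟩ : Fin p))
        (fun _ _ _ => Finset.mem_univ _) (fun _ _ _ _ _ _ h => Fin.ext (by simpa [Fin.ext_iff] using h))
        (fun l _ hl => ?_) fun l _ _ => ?_)
      · have hlt : (l : ℕ) < (e j : ℕ) := by
          by_contra h
          exact hl (by simp only [g, if_neg h, zero_smul])
        refine ⟨⟨l, hlt⟩, Finset.mem_univ _, fun h0 => hl ?_, rfl⟩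
        simp only [g, if_pos hlt, mon_update]
        rw [← h0, mul_smul, mul_smul]
        congr 1
        simp only [Algebra.smul_def, map_pow, map_natCast]
        ring
      · simp only [g, if_pos l.2, mon_update]
        rw [mul_smul, mul_smul]
        congr 1
        simp only [Algebra.smul_def, map_pow, map_natCast]
        ring
  have h0 : ∑ e' : ι → Fin p, (∑ el ∈ Finset.univ.filter (fun el : (ι → Fin p) × Fin p =>
      Function.update el.1 j el.2 = e'), g el) • mon w e' = 0 := by
    rw [map_sum, Finset.sum_congr rfl fun e _ => hexp e, Finset.sum_add_distrib, add_eq_left,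
      ← Fintype.sum_prod_type'] at hfix
    rw [← hfix, ← Finset.sum_fiberwise Finset.univ (fun el : (ι → Fin p) × Fin p =>
      Function.update el.1 j el.2) (fun el => g el • mon w (Function.update el.1 j el.2))]
    refine Finset.sum_congr rfl fun e' _ => ?_
    rw [Finset.sum_smul]
    exact Finset.sum_congr rfl fun el hel => by rw [(Finset.mem_filter.mp hel).2]
  have hkp := (e₁ j).2
  let l₁ : Fin p := ⟨(e₁ j : ℕ) - 1, by omega⟩
  have hl₁ : (l₁ : ℕ) = (e₁ j : ℕ) - 1 := rfl
  have h1 := Fintype.linearIndependent_iff.mp hli _ h0 (Function.update e₁ j l₁)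
  rw [Finset.sum_eq_single (e₁, l₁)] at h1
  · simp only [g] at h1
    rw [if_pos (by omega), hl₁, Nat.choose_symm (by omega : 1 ≤ (e₁ j : ℕ)), Nat.choose_one_right,
      show (e₁ j : ℕ) - ((e₁ j : ℕ) - 1) = 1 by omega, pow_one] at h1
    have hk : ((e₁ j : ℕ) : R) ≠ 0 := fun h => by
      rw [CharP.cast_eq_zero_iff R p] at h
      exact absurd (Nat.le_of_dvd (by omega) h) (by omega)
    exact mul_ne_zero hr₁ (mul_ne_zero hk hb) h1
  · intro el hel hne
    obtain ⟨e, l⟩ := el
    have hu := (Finset.mem_filter.mp hel).2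
    simp only [g]
    split_ifs with hlt
    · by_cases hr : r e = 0
      · rw [hr, zero_mul]
      exfalso
      have hle := hmax e (Finset.mem_filter.mpr ⟨Finset.mem_univ _, hr, by omega⟩)
      have hlj : (l : ℕ) = (e₁ j : ℕ) - 1 := by
        have := congrFun hu j
        rw [Function.update_self, Function.update_self] at this
        exact (congrArg Fin.val this).trans hl₁
      have hle' : (e j : ℕ) ≤ (e₁ j : ℕ) := hle
      have hlt' : (l : ℕ) < (e j : ℕ) := hlt
      have hk₁' : (e₁ j : ℕ) ≠ 0 := hk₁
      refine hne (Prod.ext (funext fun i => ?_) (Fin.ext ?_))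
      · by_cases hi : i = j
        · rw [hi]; exact Fin.ext (show (e j : ℕ) = (e₁ j : ℕ) by omega)
        · have := congrFun hu i
          rwa [Function.update_of_ne hi, Function.update_of_ne hi] at this
      · change (l : ℕ) = (l₁ : ℕ); omega
    · rfl
  · exact fun h => absurd ((Finset.mem_filter (a := (e₁, l₁))).mpr ⟨Finset.mem_univ _, by simp only⟩) h

end Mono

end Groth.Agent.Lib.WildFam.Linear
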