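import Groth.Agent.Lib.WildFam.Linear
import Mathlib.Data.List.OfFn
import Mathlib.Algebra.Polynomial.Div
import Mathlib.RingTheory.Polynomial.Basic

/-!
# Invariants of hyperplane subgroups of translations
-/

set_option autoImplicit false
set_option maxHeartbeats 1000000

universe u

namespace Groth.Agent.Lib.WildFam.LinearFam

open Groth.Agent.Lib.WildFam.Basic Groth.Agent.Lib.WildFam.Minor Groth.Agent.Lib.WildFam.Linear

variable {R : Type u} [CommRing R] [IsDomain R] {p : ℕ} [hp : Fact p.Prime] {n : ℕ} {a x : Fin n → R}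

omit [IsDomain R] hp in
theorem smul_eq (r : R) (y : Fam p a x) : r • y = algebraMap R (Fam p a x) r * y := Algebra.smul_def r y

theorem linearIndependent_mon : LinearIndependent R (mon (p := p) (gen p a x)) := by
  obtain ⟨hfree, hfin, hrk⟩ := free_and_finrank hp.out.two_le n R a x
  refine linearIndependent_of_span_torsion _ ?_ fun t => ⟨1, one_ne_zero, ?_⟩
  · rw [Fintype.card_fun, Fintype.card_fin, Fintype.card_fin, hrk]
  · rw [one_smul]
    exact MinorCI.span_mon_quotient hp.out.two_le (fun i => a i ^ (p - 1)) x Submodule.mem_top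

/-- The inclusion of the exponents along one variable. -/
theorem powers_linearIndependent (z : Fin n → R) (i : Fin n) (hz : z i ≠ 0) :
    LinearIndependent R (fun k : Fin p => (∑ j, z j • gen p a x j) ^ (k : ℕ)) := by
  classical
  have hli := linearIndependent_mon (p := p) (a := a) (x := x)
  rw [Fintype.linearIndependent_iff]
  intro r h0 k
  by_contra hk
  have := eq_zero_of_sum z i r h0 k
  exact (mul_ne_zero hk (pow_ne_zero _ hz)) this
where
  eq_zero_of_sum (z : Fin n → R) (i : Fin n) (r : Fin p → R)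
      (h0 : ∑ k : Fin p, r k • (∑ j, z j • gen p a x j) ^ (k : ℕ) = 0) (k : Fin p) :
      r k * z i ^ (k : ℕ) = 0 := by
    haveI : NeZero p := ⟨hp.out.ne_zero⟩
    obtain ⟨B, hB⟩ : ∃ B : Module.Basis (Fin n → Fin p) R (Fam p a x), ⇑B = mon (gen p a x) :=
      ⟨Module.Basis.mk (linearIndependent_mon) (MinorCI.span_mon_quotient hp.out.two_le (fun i => a i ^ (p - 1)) x),
        Module.Basis.coe_mk _ _⟩
    have h := congrArg (fun t => B.repr t (Function.update (0 : Fin n → Fin p) i k)) h0
    simp only [map_sum, map_smul, map_zero, Finsupp.coe_finsetSum, Finset.sum_apply, Finsupp.smul_apply,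
      smul_eq_mul, Finsupp.zero_apply] at h
    rwa [Finset.sum_eq_single k, coord B hB z i k k, if_pos rfl] at h
    · intro l _ hl
      rw [coord B hB z i l k, if_neg hl, mul_zero]
    · exact fun hn => absurd (Finset.mem_univ k) hn
  coord [NeZero p] (B : Module.Basis (Fin n → Fin p) R (Fam p a x)) (hB : ⇑B = mon (gen p a x))
      (z : Fin n → R) (i : Fin n) (l k : Fin p) :
      B.repr ((∑ j, z j • gen p a x j) ^ (l : ℕ)) (Function.update (0 : Fin n → Fin p) i k) =
        if l = k then z i ^ (l : ℕ) else 0 := by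
    classical
    obtain ⟨rest, hrest, heq⟩ := pow_sum_eq (gen p a x) z i (l : ℕ) l.2
    rw [heq, ← hB, map_add, map_smul, Finsupp.add_apply, Finsupp.smul_apply, B.repr_self,
      Finsupp.single_apply, smul_eq_mul]
    have h0 : B.repr rest (Function.update (0 : Fin n → Fin p) i k) = 0 := by
      rw [← hB] at hrest
      have hsupp := (Module.Basis.mem_span_image B).mp hrest
      by_contra hne
      obtain ⟨hsum, hne'⟩ := hsupp (Finsupp.mem_support_iff.mpr hne)
      have hs : (∑ j, (Function.update (0 : Fin n → Fin p) i k j : ℕ)) = k := by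
        rw [← Finset.add_sum_erase _ _ (Finset.mem_univ i), Function.update_self,
          Finset.sum_eq_zero fun j hj => by
            rw [Function.update_of_ne (Finset.ne_of_mem_erase hj), Pi.zero_apply, Fin.val_zero]]
        rfl
      exact hne' (by congr 1; exact Fin.ext (hs.symm.trans hsum))
    rw [h0, add_zero]
    by_cases hlk : l = k
    · subst hlk
      rw [if_pos rfl, if_pos rfl, mul_one]
    · rw [if_neg hlk, if_neg fun h => hlk (by simpa using congrFun h i), mul_zero]

theorem prod_ofFn_trans [CharP (Fam p a x) p] (σ : Fin n → (Fam p a x ≃ₐ[R] Fam p a x))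
    (hσ : ∀ i j, σ i (gen p a x j) = gen p a x j + if i = j then algebraMap R (Fam p a x) (a i) else 0)
    (ν : Fin n → ZMod p) :
    (List.ofFn fun i => σ i ^ (ν i).val).prod = Galois.trans (Multiplicative.ofAdd ν) := by
  classical
  have hgen : ∀ i, σ i = Galois.trans (Multiplicative.ofAdd (Pi.single i (1 : ZMod p))) := fun i => by
    refine AlgEquiv.coe_toAlgHom_injective (hom_ext fun j => ?_)
    refine (hσ i j).trans (Eq.symm ((Galois.trans_gen _ j).trans ?_))
    rw [Pi.single_apply, apply_ite Galois.cst]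
    by_cases h : j = i
    · subst h; rw [if_pos rfl, if_pos rfl, Galois.cst, map_one, one_mul]
    · rw [if_neg h, if_neg (Ne.symm h), Galois.cst, map_zero, zero_mul]
  have hfun : (fun i => σ i ^ (ν i).val) = fun i => Galois.trans (Multiplicative.ofAdd (Pi.single i (ν i))) := by
    funext i
    rw [hgen i, ← map_pow, ← ofAdd_nsmul, ← Pi.single_smul', nsmul_one, ZMod.natCast_zmod_val]
  rw [hfun, ← Function.comp_def (f := ⇑Galois.trans), ← List.map_ofFn, ← map_list_prod, List.prod_ofFn,
    ← ofAdd_sum, Finset.univ_sum_single]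

/-- Invariants of a hyperplane of translations, given the coefficient vector of its fixed form. -/
theorem invariants_iff [CharP R p] [CharP (Fam p a x) p] [UniqueFactorizationMonoid R]
    (z : Fin n → R) (s : Fin n → ZMod p) (i₀ : Fin n) (hs : s i₀ ≠ 0)
    (hz : ∀ i, z i ≠ 0 ↔ s i ≠ 0) (γ : R)
    (hza : ∀ i, z i * a i = ZMod.castHom (dvd_refl p) R (s i) * γ)
    (ha : ∀ i, a i ≠ 0)
    (hcop : ∀ π : R, Prime π → ∃ i, ¬ π ∣ z i)
    (t : Fam p a x) :
    (∀ ν : Fin n → ZMod p, ∑ i, ν i * s i = 0 → Galois.trans (Multiplicative.ofAdd ν) t = t) ↔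
      t ∈ (Polynomial.aeval (R := R) (∑ i, z i • gen p a x i)).range := by
  classical
  haveI : NeZero p := ⟨hp.out.ne_zero⟩
  let Z : Fam p a x := ∑ i, z i • gen p a x i
  have hcast : ∀ (c : ZMod p), algebraMap R (Fam p a x) (ZMod.castHom (dvd_refl p) R c) = Galois.cst c :=
    fun c => RingHom.congr_fun (Subsingleton.elim
      ((algebraMap R (Fam p a x)).comp (ZMod.castHom (dvd_refl p) R)) (ZMod.castHom (dvd_refl p) _)) c
  have hτ : ∀ ν, Galois.trans (Multiplicative.ofAdd ν) Z =
      Z + Galois.cst (∑ i, ν i * s i) * algebraMap R (Fam p a x) γ := by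
    intro ν
    simp only [Z, map_sum, map_smul, Galois.trans_gen, smul_add, Finset.sum_add_distrib, Finset.sum_mul]
    congr 1
    simp only [Galois.cst, map_sum, Finset.sum_mul]
    refine Finset.sum_congr rfl fun i _ => ?_
    rw [map_mul, smul_eq]
    have h := congrArg (algebraMap R (Fam p a x)) (hza i)
    rw [map_mul, map_mul, hcast] at h
    simp only [Galois.cst] at h
    linear_combination (ZMod.castHom (dvd_refl p) (Fam p a x) (ν i)) * h
  refine ⟨fun h => ?_, ?_⟩
  swap
  · rintro ⟨g, rfl⟩ ν hν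
    change Galois.trans (Multiplicative.ofAdd ν) (Polynomial.aeval Z g) = Polynomial.aeval Z g
    conv_lhs => rw [← Polynomial.aeval_algHom_apply, hτ ν, hν, Galois.cst, map_zero, zero_mul, add_zero]
  -- the change of variables
  let w : Option {j : Fin n // j ≠ i₀} → Fam p a x := fun o => o.elim Z fun j => gen p a x j.1
  have hzi : z i₀ ≠ 0 := (hz i₀).mpr hs
  let cw : Option {j : Fin n // j ≠ i₀} → R := fun o => o.elim (γ ^ (p - 1)) fun j => a j.1 ^ (p - 1)
  let dw : Option {j : Fin n // j ≠ i₀} → R := fun o => o.elim (∑ i, z i ^ p * x i) fun j => x j.1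
  have hgenp : ∀ i, gen p a x i ^ p = algebraMap R _ (a i ^ (p - 1)) * gen p a x i + algebraMap R _ (x i) :=
    fun i => by linear_combination gen_rel p a x i
  have hzγ : ∀ i, z i ^ p * a i ^ (p - 1) = γ ^ (p - 1) * z i := fun i => by
    by_cases hi : z i = 0
    · rw [hi, zero_pow hp.out.ne_zero, zero_mul, mul_zero]
    have hc : ZMod.castHom (dvd_refl p) R (s i) ^ (p - 1) = 1 := by
      rw [← map_pow, ZMod.pow_card_sub_one_eq_one ((hz i).mp hi), map_one]
    have h := congrArg (fun e => e ^ (p - 1) * z i) (hza i)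
    simp only [mul_pow, hc, one_mul] at h
    rw [← h, mul_right_comm, ← pow_succ, Nat.sub_add_cancel hp.out.one_le]
  have hrel : ∀ o, w o ^ p = cw o • w o + algebraMap R (Fam p a x) (dw o) := by
    intro o
    cases o with
    | none =>
      simp only [w, cw, dw, Option.elim, Z, sum_pow_char, Finset.smul_sum, map_sum, ← Finset.sum_add_distrib]
      refine Finset.sum_congr rfl fun i _ => ?_
      rw [smul_pow, hgenp, smul_add, smul_smul, smul_eq, smul_eq, smul_eq,
        ← mul_assoc, ← map_mul, hzγ, ← map_mul]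
    | some j => exact (hgenp j.1).trans (by rw [smul_eq]; rfl)
  have hspan : ∀ y : Fam p a x, ∃ r : R, r ≠ 0 ∧ r • y ∈ Submodule.span R (Set.range (mon (p := p) w)) := by
    intro y
    have hy : y ∈ Algebra.adjoin R (Set.range (gen p a x)) := by rw [adjoin_gen]; trivial
    suffices ∃ r : R, r ≠ 0 ∧ r • y ∈ Algebra.adjoin R (Set.range w) by
      obtain ⟨r, hr, hy⟩ := this
      exact ⟨r, hr, mem_span_of_mem_adjoin w cw dw hrel hp.out.two_le hy⟩
    induction hy using Algebra.adjoin_induction with
    | algebraMap r => exact ⟨1, one_ne_zero, by rw [one_smul]; exact Subalgebra.algebraMap_mem _ r⟩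
    | mem y hy =>
      obtain ⟨i, rfl⟩ := hy
      have hothers : ∀ j, j ≠ i₀ → gen p a x j ∈ Algebra.adjoin R (Set.range w) := fun j hj =>
        Algebra.subset_adjoin (Set.mem_range_self (f := w) (some ⟨j, hj⟩))
      by_cases hi : i = i₀
      · subst hi
        refine ⟨z i, hzi, ?_⟩
        rw [show z i • gen p a x i = Z - ∑ j ∈ Finset.univ.erase i, z j • gen p a x j by
          simp only [Z]; rw [← Finset.add_sum_erase _ _ (Finset.mem_univ i), add_sub_cancel_right]]
        exact sub_mem (Algebra.subset_adjoin (Set.mem_range_self (f := w) none))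
          (sum_mem fun j hj => Subalgebra.smul_mem _ (hothers j (Finset.ne_of_mem_erase hj)) _)
      · exact ⟨1, one_ne_zero, by rw [one_smul]; exact hothers i hi⟩
    | add y y' _ _ hy hy' =>
      obtain ⟨r, hr, h1⟩ := hy
      obtain ⟨r', hr', h2⟩ := hy'
      refine ⟨r * r', mul_ne_zero hr hr', ?_⟩
      rw [smul_add, mul_smul r r' y', mul_comm r r', mul_smul r' r y]
      exact add_mem (Subalgebra.smul_mem _ h1 _) (Subalgebra.smul_mem _ h2 _)
    | mul y y' _ _ hy hy' =>
      obtain ⟨r, hr, h1⟩ := hy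
      obtain ⟨r', hr', h2⟩ := hy'
      refine ⟨r * r', mul_ne_zero hr hr', ?_⟩
      rw [← smul_mul_smul_comm]
      exact mul_mem h1 h2
  obtain ⟨hfree, hfin, hrk⟩ := free_and_finrank hp.out.two_le n R a x
  have hliw : LinearIndependent R (mon (p := p) w) := linearIndependent_of_span_torsion _
    (by rw [Fintype.card_fun, Fintype.card_fin, Fintype.card_option, Fintype.card_subtype_compl,
      Fintype.card_fin, Fintype.card_subtype_eq, hrk, Nat.sub_add_cancel (show 1 ≤ n from i₀.pos)]) hspan
  obtain ⟨r₀, hr₀, hmem⟩ := hspan t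
  obtain ⟨c, hc⟩ := (Submodule.mem_span_range_iff_exists_fun R).mp hmem
  have hzero : ∀ e : Option {j : Fin n // j ≠ i₀} → Fin p, c e ≠ 0 → ∀ j, (e (some j) : ℕ) = 0 := by
    intro e he j
    let ν : Fin n → ZMod p := Pi.single j.1 (s i₀) - Pi.single i₀ (s j.1)
    have hν : ∑ i, ν i * s i = 0 := by
      simp only [ν, Pi.sub_apply, sub_mul, Finset.sum_sub_distrib, Pi.single_apply, ite_mul, zero_mul,
        Finset.sum_ite_eq', Finset.mem_univ, if_true]
      ring
    refine coeff_eq_zero_of_fixed w hliw (Galois.trans (Multiplicative.ofAdd ν)).toAlgHom (some j)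
      (ZMod.castHom (dvd_refl p) R (s i₀) * a j.1)
      (mul_ne_zero ((map_ne_zero_iff _ (ZMod.castHom (dvd_refl p) R).injective).mpr hs) (ha _)) ?_ ?_ c ?_ e he
    · refine (Galois.trans_gen ν j.1).trans ?_
      simp only [w, Option.elim, ν, Pi.sub_apply, Pi.single_eq_same, Pi.single_eq_of_ne j.2, sub_zero,
        map_mul, hcast]
    · rintro (_ | l) hl
      · refine (hτ ν).trans ?_
        rw [hν, Galois.cst, map_zero, zero_mul, add_zero]; rfl
      · refine (Galois.trans_gen ν l.1).trans ?_
        have h1 : l.1 ≠ j.1 := fun e => hl (congrArg some (Subtype.ext e))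
        simp only [w, Option.elim, ν, Pi.sub_apply, Pi.single_eq_of_ne h1, Pi.single_eq_of_ne l.2, sub_zero,
          Galois.cst, map_zero, zero_mul, add_zero]
    · rw [hc, map_smul]
      exact congrArg (r₀ • ·) (h ν hν)
  let d : Fin p → R := fun k => c fun o => o.elim k fun _ => 0
  have htd : r₀ • t = ∑ k : Fin p, d k • Z ^ (k : ℕ) := by
    rw [← hc, ← Equiv.sum_comp (Equiv.piOptionEquivProd (α := {j : Fin n // j ≠ i₀})
      (β := fun _ => Fin p)).symm, Fintype.sum_prod_type]
    refine Finset.sum_congr rfl fun k _ => ?_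
    have hsplit : ∀ g : {j : Fin n // j ≠ i₀} → Fin p, (Equiv.piOptionEquivProd (α := {j : Fin n // j ≠ i₀})
        (β := fun _ => Fin p)).symm (k, g) = fun o => o.elim k g := fun g =>
      funext fun o => by cases o <;> rfl
    rw [Finset.sum_eq_single (fun _ => 0)]
    · rw [hsplit, mon, Fintype.prod_option]
      simp [d, w]
    · intro g _ hg
      obtain ⟨j, hj⟩ : ∃ j, g j ≠ 0 := by
        by_contra hcon
        push Not at hcon
        exact hg (funext hcon)
      rw [hsplit]
      by_cases hce : c (fun o => o.elim k g) = 0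
      · rw [hce, zero_smul]
      · exact absurd (Fin.ext (hzero _ hce j)) hj
    · exact fun hn => absurd (Finset.mem_univ _) hn
  -- saturation
  have hdvd : ∀ k, r₀ ∣ d k := by
    intro k
    refine dvd_of_forall_dvd_mul (S := Set.univ) (fun i => z i ^ (k : ℕ)) (fun π hπ => ?_) r₀ (d k) hr₀ fun i _ => ?_
    · obtain ⟨i, hi⟩ := hcop π hπ
      exact ⟨i, trivial, fun hd => hi (hπ.dvd_of_dvd_pow hd)⟩
    obtain ⟨B, hB⟩ : ∃ B : Module.Basis (Fin n → Fin p) R (Fam p a x), ⇑B = mon (gen p a x) :=
      ⟨Module.Basis.mk (linearIndependent_mon) (MinorCI.span_mon_quotient hp.out.two_le (fun i => a i ^ (p - 1)) x),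
        Module.Basis.coe_mk _ _⟩
    have hco := congrArg (fun y => B.repr y (Function.update (0 : Fin n → Fin p) i k)) htd
    simp only [map_sum, map_smul, Finsupp.coe_finsetSum, Finset.sum_apply, Finsupp.smul_apply,
      smul_eq_mul, Z] at hco
    rw [Finset.sum_eq_single k (fun l _ hl => by
        rw [powers_linearIndependent.coord B hB z i l k, if_neg hl, mul_zero])
      (fun hn => absurd (Finset.mem_univ k) hn), powers_linearIndependent.coord B hB z i k k, if_pos rfl] at hco
    exact ⟨_, hco.symm⟩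
  choose q hq using hdvd
  refine ⟨∑ k : Fin p, Polynomial.C (q k) * Polynomial.X ^ (k : ℕ), ?_⟩
  change Polynomial.aeval Z _ = t
  have hinj : Function.Injective fun y : Fam p a x => r₀ • y := fun y y' hyy =>
    (smul_right_injective (Fam p a x) hr₀) hyy
  refine hinj ?_
  change r₀ • _ = r₀ • t
  rw [htd, map_sum, Finset.smul_sum]
  refine Finset.sum_congr rfl fun k _ => ?_
  rw [map_mul, Polynomial.aeval_C, map_pow, Polynomial.aeval_X, hq k, mul_smul, smul_eq (q k)]

/-- The minimal polynomial of the fixed linear form. -/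
theorem ker_aeval (z : Fin n → R) (i : Fin n) (hz : z i ≠ 0) (f : Polynomial R) (hf : f.Monic)
    (hdeg : f.natDegree = p) (hroot : Polynomial.aeval (∑ j, z j • gen p a x j) f = 0) :
    RingHom.ker (Polynomial.aeval (R := R) (∑ j, z j • gen p a x j)) = Ideal.span {f} := by
  refine le_antisymm (fun g hg => ?_) ((Ideal.span_singleton_le_iff_mem _).mpr hroot)
  rw [Ideal.mem_span_singleton, ← Polynomial.modByMonic_eq_zero_iff_dvd hf]
  have hf1 : f ≠ 1 := fun h => hp.out.ne_zero (by rw [← hdeg, h, Polynomial.natDegree_one])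
  have hlt : (g %ₘ f).natDegree < p := hdeg ▸ Polynomial.natDegree_modByMonic_lt g hf hf1
  have h0 : Polynomial.aeval (∑ j, z j • gen p a x j) (g %ₘ f) = 0 := by
    rw [Polynomial.modByMonic_eq_sub_mul_div, map_sub, map_mul, hroot, zero_mul, sub_zero]
    exact hg
  rw [Polynomial.aeval_eq_sum_range' hlt, ← Fin.sum_univ_eq_sum_range
    (fun k => (g %ₘ f).coeff k • (∑ j, z j • gen p a x j) ^ k)] at h0
  have h1 := Fintype.linearIndependent_iff.mp (powers_linearIndependent z i hz) _ h0
  refine Polynomial.ext fun m => ?_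
  by_cases hm : m < p
  · rw [h1 ⟨m, hm⟩, Polynomial.coeff_zero]
  · rw [Polynomial.coeff_eq_zero_of_natDegree_lt (lt_of_lt_of_le hlt (not_lt.mp hm)), Polynomial.coeff_zero]

end Groth.Agent.Lib.WildFam.LinearFam
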