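import Groth.Agent.Lib.WildFam.Basic
import Groth.Agent.Lib.Regular.Quotient
import Groth.Agent.Lib.Dim.Integral
import Groth.Agent.Lib.Adic.Transfer
import Groth.Agent.H24.PowerSeries
import Mathlib.RingTheory.LocalRing.Length

/-!
# The Artin–Schreier family over a complete regular local ring
-/

set_option autoImplicit false

universe u v

open IsLocalRing

namespace Groth.Agent.Lib.WildFam.Local

open Groth.Agent.Lib.WildFam.Basic

variable {R : Type u} [CommRing R] [IsRegularLocalRing R] {n p : ℕ} {a x : Fin n → R}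

lemma exists_residue_hom (hp : 2 ≤ p) (ha : ∀ i, a i ∈ maximalIdeal R)
    (hx : ∀ i, x i ∈ maximalIdeal R) :
    ∃ ε : Fam p a x →ₐ[R] ResidueField R, ∀ i, ε (gen p a x i) = 0 := by
  refine ⟨lift (p := p) (a := a) (x := x) (fun _ => (0 : ResidueField R)) fun i => by
    rw [zero_pow (by omega), mul_zero, sub_zero, zero_sub, neg_eq_zero]
    exact (residue_eq_zero_iff _).mpr (hx i), fun i => ?_⟩
  exact lift_gen _ _ i

lemma sub_algebraMap_mem (y : Fam p a x) :
    ∃ r : R, y - algebraMap R _ r ∈ Ideal.span (Set.range (gen p a x)) := by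
  have hy : y ∈ Algebra.adjoin R (Set.range (gen p a x)) := by rw [adjoin_gen]; exact Algebra.mem_top
  induction hy using Algebra.adjoin_induction with
  | mem z hz => exact ⟨0, by rw [map_zero, sub_zero]; exact Ideal.subset_span hz⟩
  | algebraMap r => exact ⟨r, by rw [sub_self]; exact zero_mem _⟩
  | add y z _ _ hy hz =>
    obtain ⟨r, hr⟩ := hy; obtain ⟨s, hs⟩ := hz
    exact ⟨r + s, by rw [map_add, add_sub_add_comm]; exact add_mem hr hs⟩
  | mul y z _ _ hy hz =>
    obtain ⟨r, hr⟩ := hy; obtain ⟨s, hs⟩ := hz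
    refine ⟨r * s, ?_⟩
    rw [map_mul, show y * z - algebraMap R (Fam p a x) r * algebraMap R (Fam p a x) s =
      (y - algebraMap R (Fam p a x) r) * z + algebraMap R (Fam p a x) r * (z - algebraMap R (Fam p a x) s) by ring]
    exact add_mem (Ideal.mul_mem_right _ _ hr) (Ideal.mul_mem_left _ _ hs)

omit [IsRegularLocalRing R] in
lemma x_mem_pow (hp : 2 ≤ p) {J : Ideal (Fam p a x)} (hJ : ∀ i, gen p a x i ∈ J)
    (ha : ∀ i, algebraMap R (Fam p a x) (a i) ∈ J) (i : Fin n) :
    algebraMap R (Fam p a x) (x i) ∈ J ^ p := by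
  have h := gen_rel p a x i
  rw [sub_eq_zero] at h
  rw [← h]
  refine sub_mem (Ideal.pow_mem_pow (hJ i) p) ?_
  rw [map_pow]
  have h2 : J ^ p = J ^ (p - 1) * J := (pow_sub_one_mul (by omega) J).symm
  rw [h2]
  exact Ideal.mul_mem_mul (Ideal.pow_mem_pow (ha i) _) (hJ i)

section Struct

variable (hp : 2 ≤ p) (hm : maximalIdeal R = Ideal.span (Set.range x)) (ha : ∀ i, a i ∈ maximalIdeal R)

include hp hm ha

lemma algebraMap_mem {r : R} (hr : r ∈ maximalIdeal R) :
    algebraMap R (Fam p a x) r ∈ Ideal.span (Set.range (gen p a x)) := by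
  suffices h : maximalIdeal R ≤ (Ideal.span (Set.range (gen p a x))).comap (algebraMap R _) from h hr
  rw [hm, Ideal.span_le]
  rintro _ ⟨i, rfl⟩
  have h := gen_rel p a x i
  rw [sub_eq_zero] at h
  rw [SetLike.mem_coe, Ideal.mem_comap, ← h]
  have hi : gen p a x i ∈ Ideal.span (Set.range (gen p a x)) := Ideal.subset_span ⟨i, rfl⟩
  exact sub_mem (Ideal.pow_mem_of_mem _ hi p (by omega)) (Ideal.mul_mem_left _ _ hi)

theorem isMaximal : (Ideal.span (Set.range (gen p a x))).IsMaximal := by
  obtain ⟨ε, hε⟩ := exists_residue_hom (a := a) (x := x) hp ha fun i => hm.ge (show x i ∈ Ideal.span (Set.range x) from Ideal.subset_span ⟨i, rfl⟩)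
  have hsurj : Function.Surjective ε := fun c => by
    obtain ⟨r, rfl⟩ := residue_surjective (R := R) c
    exact ⟨algebraMap R _ r, ε.commutes r⟩
  have hker : RingHom.ker ε.toRingHom = Ideal.span (Set.range (gen p a x)) := by
    refine le_antisymm (fun y hy => ?_) (Ideal.span_le.mpr ?_)
    · obtain ⟨r, hr⟩ := sub_algebraMap_mem (R := R) y
      have h1 : ε (y - algebraMap R _ r) = 0 := by
        refine RingHom.mem_ker.mp ((Ideal.span_le.mpr ?_) hr : _ ∈ RingHom.ker ε.toRingHom)
        rintro _ ⟨i, rfl⟩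
        exact hε i
      rw [map_sub, show ε y = 0 from hy, zero_sub, neg_eq_zero, ε.commutes] at h1
      have h2 := algebraMap_mem hp hm ha ((residue_eq_zero_iff r).mp h1)
      simpa using add_mem hr h2
    · rintro _ ⟨i, rfl⟩
      exact hε i
  rw [← hker]
  exact RingHom.ker_isMaximal_of_surjective _ hsurj

theorem eq_of_isMaximal (Q : Ideal (Fam p a x)) [Q.IsMaximal] :
    Q = Ideal.span (Set.range (gen p a x)) := by
  obtain ⟨-, hfin, -⟩ := free_and_finrank hp n R a x
  haveI : Algebra.IsIntegral R (Fam p a x) := Algebra.IsIntegral.of_finite R _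
  have hQ : maximalIdeal R = Q.comap (algebraMap R (Fam p a x)) :=
    (IsLocalRing.eq_maximalIdeal (Ideal.isMaximal_comap_of_isIntegral_of_isMaximal Q)).symm
  refine ((isMaximal hp hm ha).eq_of_le ‹Q.IsMaximal›.ne_top (Ideal.span_le.mpr ?_)).symm
  rintro _ ⟨i, rfl⟩
  refine ‹Q.IsMaximal›.isPrime.mem_of_pow_mem p ?_
  have h := gen_rel p a x i
  rw [sub_eq_zero, sub_eq_iff_eq_add] at h
  rw [h]
  refine add_mem ?_ (Ideal.mul_mem_right _ _ ?_)
  · exact hQ.le (hm.ge (show x i ∈ Ideal.span (Set.range x) from Ideal.subset_span ⟨i, rfl⟩))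
  · rw [map_pow]
    exact Ideal.pow_mem_of_mem _ (show algebraMap R (Fam p a x) (a i) ∈ Q from hQ.le (ha i)) (p - 1)
      (by omega)

theorem isLocalRing : IsLocalRing (Fam p a x) := by
  obtain ⟨hfree, hfin, hrank⟩ := free_and_finrank hp n R a x
  refine IsLocalRing.of_unique_max_ideal ⟨_, isMaximal hp hm ha, fun Q hQ => ?_⟩
  exact eq_of_isMaximal hp hm ha Q

theorem maximalIdeal_eq [IsLocalRing (Fam p a x)] :
    maximalIdeal (Fam p a x) = Ideal.span (Set.range (gen p a x)) :=
  eq_of_isMaximal hp hm ha _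

theorem faithfulSMul : FaithfulSMul R (Fam p a x) := by
  obtain ⟨hfree, hfin, hrank⟩ := free_and_finrank hp n R a x
  haveI : Nontrivial (Fam p a x) := Module.nontrivial_of_finrank_pos (R := R)
    (by rw [hrank]; exact pow_pos (by omega) n)
  haveI : Module.IsTorsionFree R (Fam p a x) := by
    haveI := Groth.Agent.Lib.Regular.Quotient.isDomain R
    infer_instance
  haveI := Groth.Agent.Lib.Regular.Quotient.isDomain R
  exact Module.Free.instFaithfulSMulOfNontrivial R _

theorem isRegularLocalRing (hdim : ringKrullDim R = n) : IsRegularLocalRing (Fam p a x) := by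
  obtain ⟨hfree, hfin, hrank⟩ := free_and_finrank hp n R a x
  haveI := isLocalRing hp hm ha
  haveI : IsNoetherianRing (Fam p a x) := isNoetherian_of_tower R inferInstance
  haveI : Algebra.IsIntegral R (Fam p a x) := Algebra.IsIntegral.of_finite R _
  haveI := faithfulSMul hp hm ha
  refine IsRegularLocalRing.of_spanFinrank_maximalIdeal_le (Fam p a x) ?_
  rw [maximalIdeal_eq hp hm ha,
    Groth.Agent.Lib.Dim.Integral.ringKrullDim_eq_of_isIntegral (R := R) (A := Fam p a x), hdim,
    Nat.cast_le]
  exact (Submodule.spanFinrank_span_le_ncard_of_finite (Set.finite_range _)).trans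
    ((Set.image_univ (f := gen p a x) ▸ Set.ncard_image_le Set.finite_univ :
      (Set.range (gen p a x)).ncard ≤ (Set.univ : Set (Fin n)).ncard).trans
        (by rw [Set.ncard_univ, Nat.card_fin]))

theorem map_le_pow : (maximalIdeal R).map (algebraMap R (Fam p a x)) ≤
    Ideal.span (Set.range (gen p a x)) ^ p := by
  rw [Ideal.map_le_iff_le_comap]
  conv_lhs => rw [hm]
  rw [Ideal.span_le]
  rintro _ ⟨i, rfl⟩
  exact x_mem_pow (J := Ideal.span (Set.range (gen p a x))) hp (fun i => Ideal.subset_span ⟨i, rfl⟩) (fun i => algebraMap_mem hp hm ha (ha i)) i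

theorem pow_le_map : ∃ N, Ideal.span (Set.range (gen p a x)) ^ N ≤
    (maximalIdeal R).map (algebraMap R (Fam p a x)) := by
  refine Ideal.exists_pow_le_of_le_radical_of_fg ?_ (Submodule.fg_span (Set.finite_range _))
  rw [Ideal.span_le]
  rintro _ ⟨i, rfl⟩
  refine ⟨p, ?_⟩
  have h := gen_rel p a x i
  rw [sub_eq_zero, sub_eq_iff_eq_add] at h
  rw [h]
  refine add_mem (Ideal.mem_map_of_mem _ (hm.ge (show x i ∈ Ideal.span (Set.range x) from Ideal.subset_span ⟨i, rfl⟩)))
    (Ideal.mul_mem_right _ _ (Ideal.mem_map_of_mem _ ?_))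
  exact Ideal.pow_mem_of_mem _ (ha i) _ (by omega)

theorem isAdicComplete [IsAdicComplete (maximalIdeal R) R] :
    IsAdicComplete (Ideal.span (Set.range (gen p a x))) (Fam p a x) := by
  obtain ⟨hfree, hfin, -⟩ := free_and_finrank hp n R a x
  haveI hc : IsAdicComplete (maximalIdeal R) (Fam p a x) :=
    Groth.Agent.Lib.Adic.Complete.isAdicComplete_of_finite
  haveI : IsAdicComplete ((maximalIdeal R).map (algebraMap R (Fam p a x))) (Fam p a x) :=
    (IsAdicComplete.map_algebraMap_iff (maximalIdeal R) _).mpr hc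
  obtain ⟨N, hN⟩ := pow_le_map hp hm ha
  exact Groth.Agent.Lib.Adic.Transfer.isAdicComplete_of_le
    ((map_le_pow hp hm ha).trans (Ideal.pow_le_self (by omega))) hN

omit hp hm ha [IsRegularLocalRing R] in
/-- The fixed-point ideal of the translation by `a`. -/
theorem span_sub_eq (σ : Fam p a x ≃ₐ[R] Fam p a x)
    (hσ : ∀ i, σ (gen p a x i) = gen p a x i + algebraMap R _ (a i)) :
    Ideal.span (Set.range fun t : Fam p a x => σ t - t) =
      (Ideal.span (Set.range a)).map (algebraMap R (Fam p a x)) := by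
  refine le_antisymm (Ideal.span_le.mpr ?_) (Ideal.map_le_iff_le_comap.mpr (Ideal.span_le.mpr ?_))
  · rintro _ ⟨t, rfl⟩
    set J := (Ideal.span (Set.range a)).map (algebraMap R (Fam p a x)) with hJ
    have h : (Ideal.Quotient.mkₐ R J).comp (σ : Fam p a x →ₐ[R] Fam p a x) = Ideal.Quotient.mkₐ R J := by
      refine AlgHom.ext_of_adjoin_eq_top (adjoin_gen (p := p) (a := a) (x := x)) ?_; rintro _ ⟨i, rfl⟩
      change Ideal.Quotient.mk J (σ (gen p a x i)) = Ideal.Quotient.mk J (gen p a x i)
      rw [hσ, map_add, Ideal.Quotient.eq_zero_iff_mem.mpr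
        (Ideal.mem_map_of_mem _ (show a i ∈ Ideal.span (Set.range a) from Ideal.subset_span ⟨i, rfl⟩)), add_zero]
    exact Ideal.Quotient.eq.mp (AlgHom.congr_fun h t)
  · rintro _ ⟨i, rfl⟩
    rw [SetLike.mem_coe, Ideal.mem_comap,
      show algebraMap R (Fam p a x) (a i) = σ (gen p a x i) - gen p a x i by rw [hσ]; ring]
    exact Ideal.subset_span ⟨_, rfl⟩

/-- Lengths of quotients extended from the base. -/
theorem length_quotient_map (J : Ideal R) :
    Module.length (Fam p a x) (Fam p a x ⧸ J.map (algebraMap R (Fam p a x))) =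
      (p ^ n : ℕ) * Module.length R (R ⧸ J) := by
  classical
  obtain ⟨hfree, hfin, hrank⟩ := free_and_finrank hp n R a x
  haveI := isLocalRing hp hm ha
  haveI := faithfulSMul hp hm ha
  haveI : Algebra.IsIntegral R (Fam p a x) := Algebra.IsIntegral.of_finite R _
  haveI : IsLocalHom (algebraMap R (Fam p a x)) := Algebra.IsIntegral.isLocalHom _ _
  have hres : Module.length (ResidueField R) (ResidueField (Fam p a x)) = 1 := by
    have hs : Function.Surjective (Algebra.linearMap (ResidueField R) (ResidueField (Fam p a x))) := by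
      intro c
      obtain ⟨y, rfl⟩ := residue_surjective (R := Fam p a x) c
      obtain ⟨r, hr⟩ := sub_algebraMap_mem (R := R) y
      refine ⟨residue R r, ?_⟩
      rw [← maximalIdeal_eq hp hm ha, ← residue_eq_zero_iff, map_sub, sub_eq_zero] at hr
      exact hr.symm
    refine le_antisymm ((Module.length_le_of_surjective _ hs).trans (le_of_eq ?_))
      (Order.one_le_iff_pos.mpr Module.length_pos)
    exact Module.length_eq_one _ _
  have h1 := IsLocalRing.length_restrictScalars R (Fam p a x) (Fam p a x ⧸ J.map (algebraMap R (Fam p a x)))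
  rw [hres, mul_one] at h1
  rw [← h1]
  let ι := Module.Free.ChooseBasisIndex R (Fam p a x)
  let b : Module.Basis ι R (Fam p a x) := Module.Free.chooseBasis R (Fam p a x)
  let π : Fam p a x →ₗ[R] (ι → R ⧸ J) :=
    (LinearMap.compLeft (Submodule.mkQ J) ι) ∘ₗ b.equivFun.toLinearMap
  have hπ : Function.Surjective π :=
    (Function.Surjective.comp_left (Submodule.mkQ_surjective J)).comp b.equivFun.surjective
  have hker : LinearMap.ker π = (J.map (algebraMap R (Fam p a x))).restrictScalars R := by
    rw [← Ideal.smul_top_eq_map]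
    refine le_antisymm (fun y hy => ?_) (fun y hy => ?_)
    · rw [← b.sum_equivFun y]
      exact Submodule.sum_mem _ fun i _ => Submodule.smul_mem_smul
        ((Submodule.Quotient.mk_eq_zero J).mp (congrFun hy i)) Submodule.mem_top
    · refine Submodule.smul_induction_on hy (fun r hr z _ => funext fun i => ?_) fun z w hz hw => add_mem hz hw
      change Submodule.Quotient.mk (b.equivFun (r • z) i) = 0
      rw [map_smul, Pi.smul_apply, Submodule.Quotient.mk_eq_zero]
      exact J.mul_mem_right _ hr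
  let e : (Fam p a x ⧸ J.map (algebraMap R (Fam p a x))) ≃ₗ[R] (ι → R ⧸ J) :=
    ((Submodule.Quotient.restrictScalarsEquiv R (J.map (algebraMap R (Fam p a x)))).symm.trans
      (Submodule.quotEquivOfEq _ _ hker.symm)).trans (π.quotKerEquivOfSurjective hπ)
  rw [e.length_eq, Module.length_pi_of_fintype, Finset.sum_const, Finset.card_univ,
    show Fintype.card ι = p ^ n from (Module.finrank_eq_card_chooseBasisIndex R _).symm.trans hrank,
    nsmul_eq_mul]

end Struct

end Groth.Agent.Lib.WildFam.Local
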