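import Groth.Agent.Lib.WildFam.Galois
import Mathlib.RingTheory.Adjoin.Polynomial.Basic
import Mathlib.LinearAlgebra.TensorProduct.Tower
import Mathlib.LinearAlgebra.Dimension.Localization
import Mathlib.LinearAlgebra.Dimension.OrzechProperty

/-!
# The subring of minor elements of the Artin–Schreier family
-/

set_option autoImplicit false

universe u v

open Polynomial

namespace Groth.Agent.Lib.WildFam.Minor

open Groth.Agent.Lib.WildFam.Basic

section Mono

variable {R : Type u} [CommRing R] {A : Type v} [CommRing A] [Algebra R A] {ι : Type*} [Fintype ι]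
  {p : ℕ} (w : ι → A)

/-- The monomials with exponents below `p`. -/
noncomputable def mon (e : ι → Fin p) : A := ∏ i, w i ^ (e i : ℕ)

theorem mul_mem_span (c d : ι → R) (hrel : ∀ i, w i ^ p = c i • w i + algebraMap R A (d i))
    (hp : 2 ≤ p) (i : ι) {m : A} (hm : m ∈ Submodule.span R (Set.range (mon (p := p) w))) :
    w i * m ∈ Submodule.span R (Set.range (mon (p := p) w)) := by
  classical
  induction hm using Submodule.span_induction with
  | zero => rw [mul_zero]; exact zero_mem _
  | add x y _ _ hx hy => rw [mul_add]; exact add_mem hx hy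
  | smul r x _ hx => rw [mul_smul_comm]; exact Submodule.smul_mem _ r hx
  | mem x hx =>
    obtain ⟨e, rfl⟩ := hx
    have hsplit : ∀ e' : ι → Fin p, mon w e' =
        w i ^ (e' i : ℕ) * ∏ j ∈ Finset.univ.erase i, w j ^ (e' j : ℕ) := fun e' =>
      (Finset.mul_prod_erase Finset.univ _ (Finset.mem_univ i)).symm
    have hupd : ∀ k : Fin p, mon w (Function.update e i k) =
        w i ^ (k : ℕ) * ∏ j ∈ Finset.univ.erase i, w j ^ (e j : ℕ) := fun k => by
      rw [hsplit, Function.update_self]
      congr 1
      exact Finset.prod_congr rfl fun j hj => by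
        rw [Function.update_of_ne (Finset.ne_of_mem_erase hj)]
    rw [hsplit e, ← mul_assoc, ← pow_succ']
    by_cases hlt : (e i : ℕ) + 1 < p
    · rw [← hupd ⟨_, hlt⟩]
      exact Submodule.subset_span ⟨_, rfl⟩
    · have heq : (e i : ℕ) + 1 = p := by omega
      rw [heq, hrel i, add_mul, smul_mul_assoc, ← Algebra.smul_def]
      refine add_mem (Submodule.smul_mem _ _ ?_) (Submodule.smul_mem _ _ ?_)
      · have := hupd ⟨1, by omega⟩
        rw [pow_one] at this
        rw [← this]
        exact Submodule.subset_span ⟨_, rfl⟩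
      · have := hupd ⟨0, by omega⟩
        rw [pow_zero, one_mul] at this
        rw [← this]
        exact Submodule.subset_span ⟨_, rfl⟩

theorem mem_span_of_mem_adjoin (c d : ι → R) (hrel : ∀ i, w i ^ p = c i • w i + algebraMap R A (d i))
    (hp : 2 ≤ p) {t : A} (ht : t ∈ Algebra.adjoin R (Set.range w)) :
    t ∈ Submodule.span R (Set.range (mon (p := p) w)) := by
  suffices h : ∀ m ∈ Submodule.span R (Set.range (mon (p := p) w)),
      t * m ∈ Submodule.span R (Set.range (mon (p := p) w)) by
    have h1 : (1 : A) ∈ Submodule.span R (Set.range (mon (p := p) w)) :=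
      Submodule.subset_span (Set.mem_range.mpr ⟨fun _ : ι => (⟨0, by omega⟩ : Fin p), by simp [mon]⟩)
    simpa using h 1 h1
  induction ht using Algebra.adjoin_induction with
  | mem x hx =>
    obtain ⟨i, rfl⟩ := hx
    exact fun m hm => mul_mem_span w c d hrel hp i hm
  | algebraMap r =>
    intro m hm
    rw [← Algebra.smul_def]
    exact Submodule.smul_mem _ r hm
  | add x y _ _ hx hy => intro m hm; rw [add_mul]; exact add_mem (hx m hm) (hy m hm)
  | mul x y _ _ hx hy => intro m hm; rw [mul_assoc]; exact hx _ (hy m hm)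

theorem mon_mem_adjoin (e : ι → Fin p) : mon w e ∈ Algebra.adjoin R (Set.range w) :=
  prod_mem fun i _ => pow_mem (Algebra.subset_adjoin (Set.mem_range_self i)) _

end Mono

/-- A family as numerous as the rank which spans up to torsion is linearly independent. -/
theorem linearIndependent_of_span_torsion {R : Type u} [CommRing R] [IsDomain R] {M : Type v}
    [AddCommGroup M] [Module R M] [Module.Free R M] [Module.Finite R M] {κ : Type*} [Fintype κ]
    (w : κ → M) (hcard : Fintype.card κ = Module.finrank R M)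
    (h : ∀ t : M, ∃ r : R, r ≠ 0 ∧ r • t ∈ Submodule.span R (Set.range w)) :
    LinearIndependent R w := by
  let K := FractionRing R
  let f : M →ₗ[R] TensorProduct R K M := TensorProduct.mk R K M 1
  let S : Submodule K (TensorProduct R K M) := Submodule.span K (Set.range (f ∘ w))
  have hw : ∀ m ∈ Submodule.span R (Set.range w), f m ∈ S := by
    intro m hm
    induction hm using Submodule.span_induction with
    | zero => rw [map_zero]; exact zero_mem _
    | add x y _ _ hx hy => rw [map_add]; exact add_mem hx hy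
    | smul r x _ hx => rw [map_smul, ← algebraMap_smul K]; exact S.smul_mem _ hx
    | mem x hx => obtain ⟨i, rfl⟩ := hx; exact Submodule.subset_span ⟨i, rfl⟩
  have hS : ⊤ ≤ S := by
    rintro x -
    induction x with
    | zero => exact zero_mem _
    | add x y hx hy => exact add_mem hx hy
    | tmul c m =>
      obtain ⟨r, hr, hrm⟩ := h m
      have h1 := hw _ hrm
      rw [map_smul, ← algebraMap_smul K] at h1
      have h2 : f m ∈ S := by
        have := S.smul_mem (algebraMap R K r)⁻¹ h1
        rwa [inv_smul_smul₀ ((map_ne_zero_iff _ (IsFractionRing.injective R K)).mpr hr)] at this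
      have h3 : c ⊗ₜ[R] m = c • f m := by simp [f, TensorProduct.smul_tmul']
      rw [h3]
      exact S.smul_mem _ h2
  have hli : LinearIndependent K (f ∘ w) := linearIndependent_of_top_le_span_of_card_eq_finrank hS
    (by rw [hcard, Module.finrank_baseChange])
  exact LinearIndependent.of_comp f (hli.restrict_scalars (fun a b hab => IsFractionRing.injective R K (by
    simpa using hab)))

variable {R : Type u} [CommRing R] [IsDomain R] {p : ℕ} [hp : Fact p.Prime] {n : ℕ}
  (μ : R) (a x : Fin n → R) (i₀ : Fin n)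

local notation "A" => Fam p (fun i => μ * a i) x
local notation "u" => gen p (fun i => μ * a i) x

omit [IsDomain R] hp in
theorem smul_eq (r : R) (y : A) : r • y = algebraMap R A r * y := Algebra.smul_def r y

/-- The minor elements through `i₀`. -/
noncomputable def minor (j : {j : Fin n // j ≠ i₀}) : A :=
  algebraMap R A (a i₀) * u j.1 - algebraMap R A (a j.1) * u i₀

theorem minor_rel [CharP A p] (j : {j : Fin n // j ≠ i₀}) :
    minor (p := p) μ a x i₀ j ^ p = ((μ * a i₀ * a j.1) ^ (p - 1)) • minor (p := p) μ a x i₀ j +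
      algebraMap R A (a i₀ ^ p * x j.1 - a j.1 ^ p * x i₀) := by
  have h1 := gen_rel p (fun i => μ * a i) x j.1
  have h2 := gen_rel p (fun i => μ * a i) x i₀
  have hpow : ∀ r : R, algebraMap R A r ^ p = algebraMap R A r ^ (p - 1) * algebraMap R A r := fun r => by
    rw [← pow_succ, Nat.sub_add_cancel hp.out.one_le]
  rw [minor, sub_pow_char, mul_pow, mul_pow, smul_eq]
  simp only [map_sub, map_mul, map_pow, mul_pow] at h1 h2 ⊢
  linear_combination (algebraMap R A (a i₀) ^ p) * h1 - (algebraMap R A (a j.1) ^ p) * h2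
    + (algebraMap R A μ ^ (p - 1) * algebraMap R A (a j.1) ^ (p - 1) * u j.1) * hpow (a i₀)
    - (algebraMap R A μ ^ (p - 1) * algebraMap R A (a i₀) ^ (p - 1) * u i₀) * hpow (a j.1)

/-- All generators: the minors and `u i₀`. -/
noncomputable def gens : Option {j : Fin n // j ≠ i₀} → A := fun o => o.elim (u i₀) (minor μ a x i₀)

theorem exists_pow_smul_mem_adjoin (t : A) :
    ∃ N : ℕ, (a i₀) ^ N • t ∈ Algebra.adjoin R (Set.range (gens (p := p) μ a x i₀)) := by
  have ht : t ∈ Algebra.adjoin R (Set.range u) := by rw [adjoin_gen]; trivial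
  induction ht using Algebra.adjoin_induction with
  | algebraMap r => exact ⟨0, by rw [pow_zero, one_smul]; exact Subalgebra.algebraMap_mem _ r⟩
  | mem y hy =>
    obtain ⟨i, rfl⟩ := hy
    by_cases hi : i = i₀
    · exact ⟨0, by rw [pow_zero, one_smul, hi]; exact Algebra.subset_adjoin ⟨none, rfl⟩⟩
    · refine ⟨1, ?_⟩
      have : a i₀ ^ 1 • u i = gens μ a x i₀ (some ⟨i, hi⟩) + a i • gens μ a x i₀ none := by
        simp [gens, minor, smul_eq]
      rw [this]
      exact add_mem (Algebra.subset_adjoin ⟨some ⟨i, hi⟩, rfl⟩) (Subalgebra.smul_mem _ (Algebra.subset_adjoin (Set.mem_range_self none)) _)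
  | add y z _ _ hy hz =>
    obtain ⟨N, hN⟩ := hy
    obtain ⟨M, hM⟩ := hz
    refine ⟨N + M, ?_⟩
    rw [smul_add]
    refine add_mem ?_ ?_
    · rw [pow_add, mul_comm, mul_smul]
      exact Subalgebra.smul_mem _ hN _
    · rw [pow_add, mul_smul]
      exact Subalgebra.smul_mem _ hM _
  | mul y z _ _ hy hz =>
    obtain ⟨N, hN⟩ := hy
    obtain ⟨M, hM⟩ := hz
    refine ⟨N + M, ?_⟩
    rw [pow_add, ← smul_mul_smul_comm]
    exact mul_mem hN hM

theorem gens_rel [CharP A p] (o : Option {j : Fin n // j ≠ i₀}) :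
    gens (p := p) μ a x i₀ o ^ p =
      (o.elim ((μ * a i₀) ^ (p - 1)) fun j => (μ * a i₀ * a j.1) ^ (p - 1)) • gens (p := p) μ a x i₀ o +
        algebraMap R A (o.elim (x i₀) fun j => a i₀ ^ p * x j.1 - a j.1 ^ p * x i₀) := by
  cases o with
  | none =>
    have h := gen_rel p (fun i => μ * a i) x i₀
    simp only [gens, Option.elim, smul_eq]
    linear_combination h
  | some j => exact minor_rel μ a x i₀ j

theorem exists_pow_smul_mem_span [CharP A p] (t : A) :
    ∃ N : ℕ, (a i₀) ^ N • t ∈
      Submodule.span R (Set.range (mon (p := p) (gens (p := p) μ a x i₀))) := by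
  obtain ⟨N, hN⟩ := exists_pow_smul_mem_adjoin μ a x i₀ t
  exact ⟨N, mem_span_of_mem_adjoin _ _ _ (gens_rel μ a x i₀) hp.out.two_le hN⟩

theorem linearIndependent_gens [CharP A p] (ha : a i₀ ≠ 0) :
    LinearIndependent R (mon (p := p) (gens (p := p) μ a x i₀)) := by
  obtain ⟨hfree, hfin, hrank⟩ := free_and_finrank hp.out.two_le n R (fun i => μ * a i) x
  refine linearIndependent_of_span_torsion _ ?_ fun t => ?_
  · rw [Fintype.card_fun, Fintype.card_fin, Fintype.card_option, Fintype.card_subtype_compl,
      Fintype.card_fin, Fintype.card_subtype_eq, hrank, Nat.sub_add_cancel (show 1 ≤ n from i₀.pos)]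
  · obtain ⟨N, hN⟩ := exists_pow_smul_mem_span μ a x i₀ t
    exact ⟨_, pow_ne_zero N ha, hN⟩

theorem mon_gens (e : Option {j : Fin n // j ≠ i₀} → Fin p) :
    mon (gens (p := p) μ a x i₀) e =
      u i₀ ^ (e none : ℕ) * mon (minor (p := p) μ a x i₀) (fun j => e (some j)) := by
  rw [mon, Fintype.prod_option]; rfl

theorem linearIndependent_minor [CharP A p] (ha : a i₀ ≠ 0) :
    LinearIndependent R (mon (p := p) (minor (p := p) μ a x i₀)) := by
  have h := (linearIndependent_gens (p := p) μ a x i₀ ha).comp
    (fun e o => o.elim ⟨0, hp.out.pos⟩ e) (fun e e' he => funext fun j => congrFun he (some j))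
  refine (linearIndependent_equiv' (Equiv.refl _) (funext fun e => ?_)).mp h
  simp [mon_gens]

/-- The elements fixed by the diagonal translation are minors up to powers of `μ a i₀`. -/
theorem exists_pow_mul_mem [CharP A p] [IsDomain A] (ha : a i₀ ≠ 0)
    (hb : algebraMap R A (μ * a i₀) ≠ 0) (σ : A ≃ₐ[R] A)
    (hσ : ∀ i, σ (u i) = u i + algebraMap R A (μ * a i)) (t : A) (ht : σ t = t) :
    ∃ N : ℕ, algebraMap R A (μ * a i₀) ^ N * t ∈
      Algebra.adjoin R (Set.range (minor (p := p) μ a x i₀)) := by
  classical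
  obtain ⟨N, hN⟩ := exists_pow_smul_mem_span μ a x i₀ t
  refine ⟨N, ?_⟩
  let Bz := Algebra.adjoin R (Set.range (minor (p := p) μ a x i₀))
  let t' : A := algebraMap R A (μ * a i₀) ^ N * t
  have ht' : σ t' = t' := by rw [map_mul, map_pow, σ.commutes, ht]
  have hσB : ∀ y ∈ Bz, σ y = y := by
    intro y hy
    induction hy using Algebra.adjoin_induction with
    | mem y hy =>
      obtain ⟨j, rfl⟩ := hy
      simp only [minor, map_sub, map_mul, σ.commutes, hσ]
      ring
    | algebraMap r => exact σ.commutes r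
    | add y z _ _ hy hz => rw [map_add, hy, hz]
    | mul y z _ _ hy hz => rw [map_mul, hy, hz]
  have hmem : t' ∈ Submodule.span R (Set.range (mon (p := p) (gens (p := p) μ a x i₀))) := by
    have := Submodule.smul_mem (R := R) _ (μ ^ N) hN
    rwa [smul_smul, ← mul_pow, smul_eq, map_pow] at this
  obtain ⟨r, hr⟩ := (Submodule.mem_span_range_iff_exists_fun R).mp hmem
  let e' : Fin p → ({j : Fin n // j ≠ i₀} → Fin p) → Option {j : Fin n // j ≠ i₀} → Fin p :=
    fun k e o => o.elim k e
  let c : Fin p → A := fun k => ∑ e, r (e' k e) • mon (minor (p := p) μ a x i₀) e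
  have hc : ∀ k, c k ∈ Bz := fun k =>
    sum_mem fun e _ => Subalgebra.smul_mem _ (mon_mem_adjoin _ e) _
  have hsum : ∑ k : Fin p, c k * u i₀ ^ (k : ℕ) = t' := by
    rw [← hr, ← Equiv.sum_comp (Equiv.piOptionEquivProd (α := {j : Fin n // j ≠ i₀})
      (β := fun _ => Fin p)).symm, Fintype.sum_prod_type]
    refine Finset.sum_congr rfl fun k _ => ?_
    rw [Finset.sum_mul]
    refine Finset.sum_congr rfl fun e _ => ?_
    have he : (Equiv.piOptionEquivProd (α := {j : Fin n // j ≠ i₀})
        (β := fun _ => Fin p)).symm (k, e) = e' k e := funext fun o => by cases o <;> rfl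
    rw [he, mon_gens, smul_mul_assoc, mul_comm]
    rfl
  have huniq : ∀ d : Fin p → A, (∀ k, d k ∈ Bz) → ∑ k : Fin p, d k * u i₀ ^ (k : ℕ) = 0 → ∀ k, d k = 0 := by
    intro d hd h0
    have hd' : ∀ k, ∃ s : ({j : Fin n // j ≠ i₀} → Fin p) → R,
        ∑ e, s e • mon (minor (p := p) μ a x i₀) e = d k := fun k =>
      (Submodule.mem_span_range_iff_exists_fun R).mp
        (mem_span_of_mem_adjoin _ _ _ (minor_rel μ a x i₀) hp.out.two_le (hd k))
    choose s hs using hd'
    have hli := Fintype.linearIndependent_iff.mp (linearIndependent_gens (p := p) μ a x i₀ ha)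
      (fun e => s (e none) fun j => e (some j)) (by
        rw [← Equiv.sum_comp (Equiv.piOptionEquivProd (α := {j : Fin n // j ≠ i₀})
          (β := fun _ => Fin p)).symm, Fintype.sum_prod_type, ← h0]
        refine Finset.sum_congr rfl fun k _ => ?_
        rw [← hs k, Finset.sum_mul]
        refine Finset.sum_congr rfl fun e _ => ?_
        rw [mon_gens, smul_mul_assoc, mul_comm]
        rfl)
    intro k
    rw [← hs k]
    refine Finset.sum_eq_zero fun e _ => ?_
    have := hli (e' k e)
    simp only [e', Option.elim] at this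
    rw [this, zero_smul]
  -- periodicity
  let Q : Bz[X] := ∑ k : Fin p, C (⟨c k, hc k⟩ : Bz) * X ^ (k : ℕ)
  let b : Bz := algebraMap R Bz (μ * a i₀)
  have hQdeg : Q.natDegree < p := by
    refine lt_of_le_of_lt (natDegree_sum_le_of_forall_le _ _ (n := p - 1) fun k _ => ?_)
      (Nat.sub_lt hp.out.pos Nat.one_pos)
    exact (natDegree_C_mul_X_pow_le _ _).trans (by omega)
  have hev : ∀ (y : A), aeval y Q = ∑ k : Fin p, c k * y ^ (k : ℕ) := fun y => by
    simp only [Q, map_sum, map_mul, aeval_C, map_pow, aeval_X]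
    rfl
  have hD : Q.comp (X + C b) = Q := by
    rw [← sub_eq_zero]
    let D := Q.comp (X + C b) - Q
    have hDdeg : D.natDegree < p := lt_of_le_of_lt (natDegree_sub_le _ _) (max_lt
      (lt_of_le_of_lt (natDegree_comp_le.trans (by rw [natDegree_X_add_C, mul_one])) hQdeg) hQdeg)
    have h0 : aeval (u i₀) D = 0 := by
      simp only [D, map_sub, aeval_comp, map_add, aeval_X, aeval_C, hev]
      rw [show algebraMap Bz A b = algebraMap R A (μ * a i₀) from rfl, ← hσ i₀, hsum]
      refine sub_eq_zero.mpr (Eq.trans ?_ ht')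
      rw [← hsum, map_sum]
      exact Finset.sum_congr rfl fun k _ => by rw [map_mul, map_pow, hσB _ (hc k)]
    have h1 := huniq (fun k => ((D.coeff k : Bz) : A)) (fun k => (D.coeff k).2) (by
      rw [aeval_eq_sum_range' hDdeg, ← Fin.sum_univ_eq_sum_range (fun i => D.coeff i • u i₀ ^ i)] at h0
      exact h0)
    refine Polynomial.ext fun m => ?_
    by_cases hm : m < p
    · exact Subtype.ext (h1 ⟨m, hm⟩)
    · exact coeff_eq_zero_of_natDegree_lt (lt_of_lt_of_le hDdeg (not_lt.mp hm))
  have hper : ∀ (m : ℕ), Q.eval (m • b) = Q.eval 0 := by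
    intro m
    induction m with
    | zero => rw [zero_smul]
    | succ m ih =>
      rw [succ_nsmul]
      conv_rhs => rw [← ih, ← hD]
      rw [eval_comp, eval_add, eval_X, eval_C]
  have hb' : b ≠ 0 := fun h => hb (congrArg Subtype.val h)
  have hconst : Q = C (Q.eval 0) := by
    rw [← sub_eq_zero]
    refine eq_zero_of_natDegree_lt_card_of_eval_eq_zero _
      (f := fun m : Fin p => (m : ℕ) • b) (fun m l h => Fin.ext ?_) (fun m => ?_) ?_
    · have h' := congrArg Subtype.val h
      simp only [AddSubmonoidClass.coe_nsmul, nsmul_eq_mul] at h'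
      exact CharP.natCast_injOn_Iio A p m.2 l.2 (mul_right_cancel₀ (show (b : A) ≠ 0 from fun e => hb' (Subtype.ext e)) h')
    · rw [eval_sub, eval_C, hper, sub_self]
    · rw [Fintype.card_fin]
      exact lt_of_le_of_lt (natDegree_sub_le _ _) (max_lt hQdeg (by rw [natDegree_C]; exact hp.out.pos))
  change t' ∈ Bz
  rw [← hsum, ← hev, hconst, aeval_C]
  exact (Q.eval 0).2

end Groth.Agent.Lib.WildFam.Minor
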