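import Groth.Agent.Lib.WildFam.Minor

/-!
# Complete intersections of Artin–Schreier type with independent monomials
-/

set_option autoImplicit false

universe u v


namespace Groth.Agent.Lib.WildFam.MinorCI

open MvPolynomial Groth.Agent.Lib.WildFam.Minor

variable {R : Type u} [CommRing R] {A : Type v} [CommRing A] [Algebra R A] {ι : Type*} [Fintype ι]
  {p : ℕ}

/-- The monomials with exponents below `p` span the complete intersection. -/
theorem span_mon_quotient (hp : 2 ≤ p) (c d : ι → R) :
    ⊤ ≤ Submodule.span R (Set.range (mon (p := p) (fun i => Ideal.Quotient.mk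
      (Ideal.span (Set.range fun i => X i ^ p - C (c i) * X i - C (d i))) (X i)))) := by
  intro t _
  obtain ⟨f, rfl⟩ := Ideal.Quotient.mk_surjective t
  refine mem_span_of_mem_adjoin _ c d (fun i => ?_) hp ?_
  · rw [Algebra.smul_def, IsScalarTower.algebraMap_apply R (MvPolynomial ι R) (_ ⧸ _),
      IsScalarTower.algebraMap_apply R (MvPolynomial ι R) (_ ⧸ _), Ideal.Quotient.algebraMap_eq,
      MvPolynomial.algebraMap_eq, ← map_pow, ← map_mul, ← map_add, Ideal.Quotient.eq]
    rw [show X i ^ p - (C (c i) * X i + C (d i)) = X i ^ p - C (c i) * X i - C (d i) from sub_add_eq_sub_sub _ _ _]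
    exact Ideal.subset_span (Set.mem_range_self (f := fun i => X i ^ p - C (c i) * X i - C (d i)) i)
  · have hf : f ∈ Algebra.adjoin R (Set.range (X : ι → MvPolynomial ι R)) := by
      rw [MvPolynomial.adjoin_range_X]; trivial
    have : Ideal.Quotient.mkₐ R (Ideal.span (Set.range fun i => X i ^ p - C (c i) * X i - C (d i))) f ∈
        (Algebra.adjoin R (Set.range (X : ι → MvPolynomial ι R))).map
          (Ideal.Quotient.mkₐ R (Ideal.span (Set.range fun i => X i ^ p - C (c i) * X i - C (d i)))) :=
      ⟨f, hf, rfl⟩
    rw [AlgHom.map_adjoin, ← Set.range_comp] at this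
    exact this

/-- If the monomials with exponents below `p` are linearly independent, the relations generate the
kernel. -/
theorem ker_aeval (hp : 2 ≤ p) (v : ι → A) (c d : ι → R)
    (hrel : ∀ i, v i ^ p = c i • v i + algebraMap R A (d i))
    (hli : LinearIndependent R (mon (p := p) v)) :
    RingHom.ker (aeval v : MvPolynomial ι R →ₐ[R] A) =
      Ideal.span (Set.range fun i => X i ^ p - C (c i) * X i - C (d i)) := by
  classical
  have hle : Ideal.span (Set.range fun i => X i ^ p - C (c i) * X i - C (d i)) ≤
      RingHom.ker (aeval v : MvPolynomial ι R →ₐ[R] A) := by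
    rw [Ideal.span_le]
    rintro _ ⟨i, rfl⟩
    rw [SetLike.mem_coe, RingHom.mem_ker, map_sub, map_sub, map_mul, map_pow, aeval_X, aeval_C,
      aeval_C, hrel i, Algebra.smul_def]
    ring
  refine le_antisymm (fun f hf => ?_) hle
  obtain ⟨r, hr⟩ := (Submodule.mem_span_range_iff_exists_fun R).mp
    (span_mon_quotient hp c d (Submodule.mem_top (x := Ideal.Quotient.mk _ f)))
  let φ := Ideal.Quotient.liftₐ _ (aeval v : MvPolynomial ι R →ₐ[R] A) fun g hg => hle hg
  have hφ : ∀ e, φ (mon (p := p) (fun i => Ideal.Quotient.mk _ (X i)) e) = mon (p := p) v e := fun e => by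
    rw [mon, mon, map_prod]
    exact Finset.prod_congr rfl fun i _ => (map_pow φ _ _).trans (congrArg (· ^ _) (aeval_X v i))
  have h0 : ∑ e, r e • mon (p := p) v e = 0 := by
    have := congrArg φ hr
    rw [map_sum] at this
    simp only [map_smul, hφ] at this
    exact this.trans hf
  rw [← Ideal.Quotient.eq_zero_iff_mem, ← hr]
  exact Finset.sum_eq_zero fun e _ => by rw [Fintype.linearIndependent_iff.mp hli r h0 e, zero_smul]

/-- Under the same hypothesis the complete intersection is free on the monomials. -/
theorem free_quotient [Nontrivial R] (hp : 2 ≤ p) (v : ι → A) (c d : ι → R)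
    (hrel : ∀ i, v i ^ p = c i • v i + algebraMap R A (d i))
    (hli : LinearIndependent R (mon (p := p) v)) :
    Module.Free R (MvPolynomial ι R ⧸ Ideal.span (Set.range fun i => X i ^ p - C (c i) * X i - C (d i))) ∧
    Module.finrank R (MvPolynomial ι R ⧸ Ideal.span (Set.range fun i => X i ^ p - C (c i) * X i - C (d i))) =
      p ^ Fintype.card ι := by
  classical
  let φ := Ideal.Quotient.liftₐ _ (aeval v : MvPolynomial ι R →ₐ[R] A)
    fun g hg => (ker_aeval hp v c d hrel hli).ge hg
  have hφ : φ.toLinearMap ∘ mon (p := p) (fun i => Ideal.Quotient.mk _ (X i)) = mon (p := p) v := by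
    funext e
    simp only [Function.comp_apply, AlgHom.toLinearMap_apply, mon, map_prod, map_pow]
    exact Finset.prod_congr rfl fun i _ => congrArg (· ^ _) (aeval_X v i)
  let B := Module.Basis.mk (LinearIndependent.of_comp φ.toLinearMap (hφ.symm ▸ hli))
    (span_mon_quotient hp c d)
  exact ⟨Module.Free.of_basis B, by rw [Module.finrank_eq_card_basis B, Fintype.card_fun, Fintype.card_fin]⟩

end Groth.Agent.Lib.WildFam.MinorCI
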