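import Mathlib.RingTheory.IntegralClosure.IntegrallyClosed
import Mathlib.RingTheory.Localization.Integral
import Mathlib.RingTheory.Localization.FractionRing

/-!
# Normality away from an element of a subring of invariants
-/

set_option autoImplicit false

universe u

namespace Groth.Agent.Lib.WildFam.MinorNormal

/-- If a subring contains the invariants of an endomorphism of a normal domain up to powers of `b`
and is pointwise fixed, it is normal away from `b`. -/
theorem isIntegrallyClosed_away {B A : Type u} [CommRing B] [IsDomain B] [CommRing A] [IsDomain A]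
    [IsIntegrallyClosed A] (φ : B →+* A) (hφ : Function.Injective φ) (σ : A →+* A)
    (hσφ : ∀ s, σ (φ s) = φ s) (b : B) (hb : b ≠ 0)
    (hfix : ∀ t, σ t = t → ∃ (N : ℕ) (s : B), φ s = φ b ^ N * t) :
    IsIntegrallyClosed (Localization.Away b) := by
  have hle : Submonoid.powers b ≤ nonZeroDivisors B :=
    Submonoid.powers_le.mpr (mem_nonZeroDivisors_of_ne_zero hb)
  let K := FractionRing B
  let Bb := Localization.Away b
  have hu : ∀ y : Submonoid.powers b, IsUnit (algebraMap B K y.1) := fun y =>
    IsLocalization.map_units K (⟨y.1, hle y.2⟩ : nonZeroDivisors B)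
  let : Algebra Bb K := (IsLocalization.lift hu : Bb →+* K).toAlgebra
  have : IsScalarTower B Bb K := IsScalarTower.of_algebraMap_eq fun y => (IsLocalization.lift_eq hu y).symm
  have : IsFractionRing Bb K :=
    IsFractionRing.isFractionRing_of_isDomain_of_isLocalization (Submonoid.powers b) Bb K
  have : IsDomain Bb := IsLocalization.isDomain_localization hle
  refine (isIntegrallyClosed_iff K).mpr fun {y} hy => ?_
  obtain ⟨⟨_, M, rfl⟩, hM⟩ := hy.exists_multiple_integral_of_isLocalization (Submonoid.powers b) y
  let ψ : K →+* FractionRing A := IsFractionRing.lift (g := (algebraMap A (FractionRing A)).comp φ)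
    ((IsFractionRing.injective A (FractionRing A)).comp hφ)
  have hψ : ∀ s : B, ψ (algebraMap B K s) = algebraMap A (FractionRing A) (φ s) := fun s =>
    IsFractionRing.lift_algebraMap _ s
  have hint : IsIntegral A (ψ (b ^ M • y)) := by
    obtain ⟨P, hP, hP0⟩ := hM
    refine ⟨P.map φ, hP.map _, ?_⟩
    rw [Polynomial.eval₂_map, show (algebraMap A (FractionRing A)).comp φ =
      ψ.comp (algebraMap B K) from RingHom.ext fun s => (hψ s).symm, ← Polynomial.hom_eval₂,
      show Polynomial.eval₂ (algebraMap B K) (b ^ M • y) P = 0 from hP0, map_zero]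
  obtain ⟨t, ht⟩ := IsIntegrallyClosed.isIntegral_iff.mp hint
  obtain ⟨num, den, hden, hy'⟩ := IsFractionRing.div_surjective B (b ^ M • y)
  have hden0 : φ den ≠ 0 := (map_ne_zero_iff φ hφ).mpr (nonZeroDivisors.ne_zero hden)
  have ht' : t * φ den = φ num := by
    refine IsFractionRing.injective A (FractionRing A) ?_
    rw [map_mul, ht, ← hy', map_div₀, hψ, hψ, div_mul_cancel₀]
    exact (map_ne_zero_iff _ (IsFractionRing.injective A (FractionRing A))).mpr hden0
  have hfix' : σ t = t := by
    have h := congrArg σ ht'
    rw [map_mul, hσφ, hσφ, ← ht'] at h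
    exact mul_right_cancel₀ hden0 h
  obtain ⟨N, g, hg⟩ := hfix t hfix'
  refine ⟨IsLocalization.mk' Bb g (⟨b ^ (N + M), N + M, rfl⟩ : Submonoid.powers b), ?_⟩
  have hkey : algebraMap B K g = algebraMap B K (b ^ N) * (b ^ M • y) := by
    refine ψ.injective ?_
    rw [map_mul, hψ, hψ, ← ht, ← map_mul, map_pow, hg]
  refine mul_left_cancel₀ (show algebraMap B K (b ^ (N + M)) ≠ 0 from
    (map_ne_zero_iff _ (IsFractionRing.injective B K)).mpr (pow_ne_zero _ hb)) ?_
  rw [IsScalarTower.algebraMap_apply B Bb K, ← map_mul, mul_comm, IsLocalization.mk'_spec,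
    ← IsScalarTower.algebraMap_apply, ← IsScalarTower.algebraMap_apply, hkey, Algebra.smul_def,
    pow_add, map_mul, mul_assoc]

end Groth.Agent.Lib.WildFam.MinorNormal
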