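import Groth.Agent.Lib.WildFam.Minor
import Groth.Agent.H24.PowerSeries

/-!
# The complete intersection of minor elements over a power series ring
-/

set_option autoImplicit false

universe u

namespace Groth.Agent.Lib.WildFam.MinorRing

open Groth.Agent.Lib.WildFam.Basic

variable (p : ℕ) [Fact p.Prime] (k : Type u) [Field k] [CharP k p] (n : ℕ)
  (a : Fin n → MvPowerSeries (Fin n) k) (μ : MvPowerSeries (Fin n) k)

/-- The structural facts about the family. -/
theorem facts (ham : ∀ i, MvPowerSeries.constantCoeff (a i) = 0) :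
    IsDomain (Fam p (fun i => μ * a i) fun i : Fin n => MvPowerSeries.X i) ∧
    IsIntegrallyClosed (Fam p (fun i => μ * a i) fun i : Fin n => MvPowerSeries.X i) ∧
    CharP (Fam p (fun i => μ * a i) fun i : Fin n => MvPowerSeries.X i) p ∧
    FaithfulSMul (MvPowerSeries (Fin n) k) (Fam p (fun i => μ * a i) fun i : Fin n => MvPowerSeries.X i) := by
  have hp : 2 ≤ p := (Fact.out : p.Prime).two_le
  haveI := Groth.Agent.H24.PowerSeries.isRegularLocalRing_fin k n
  haveI := Groth.Agent.H24.PowerSeries.isAdicComplete k (Fin n)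
  have hm : IsLocalRing.maximalIdeal (MvPowerSeries (Fin n) k) =
      Ideal.span (Set.range fun i : Fin n => MvPowerSeries.X i) :=
    Groth.Agent.H24.PowerSeries.maximalIdeal_eq k (Fin n)
  have hma : ∀ i, μ * a i ∈ IsLocalRing.maximalIdeal (MvPowerSeries (Fin n) k) := fun i => by
    refine Ideal.mul_mem_left _ _ ?_
    rw [IsLocalRing.mem_maximalIdeal, mem_nonunits_iff, MvPowerSeries.isUnit_iff_constantCoeff, ham i]
    exact not_isUnit_zero
  haveI := Groth.Agent.Lib.WildFam.Local.isLocalRing (p := p) hp hm hma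
  haveI := Groth.Agent.Lib.WildFam.Local.isRegularLocalRing (p := p) hp hm hma
    (Groth.Agent.H24.PowerSeries.ringKrullDim_eq k n)
  haveI := Groth.Agent.Lib.Regular.Quotient.isDomain (MvPowerSeries (Fin n) k)
  haveI hd := Groth.Agent.Lib.Regular.Quotient.isDomain (Fam p (fun i => μ * a i) fun i : Fin n => MvPowerSeries.X i)
  haveI := Groth.Agent.Lib.Regular.UFD.uniqueFactorizationMonoid (Fam p (fun i => μ * a i) fun i : Fin n => MvPowerSeries.X i)
  haveI hf := Groth.Agent.Lib.WildFam.Local.faithfulSMul (p := p) hp hm hma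
  refine ⟨hd, Groth.Agent.Lib.Regular.UFD.isIntegrallyClosed _, ?_, hf⟩
  haveI : CharP (MvPowerSeries (Fin n) k) p :=
    charP_of_injective_algebraMap (algebraMap k (MvPowerSeries (Fin n) k)).injective p
  exact charP_of_injective_algebraMap (FaithfulSMul.algebraMap_injective (MvPowerSeries (Fin n) k)
    (Fam p (fun i => μ * a i) fun i : Fin n => MvPowerSeries.X i)) p

end Groth.Agent.Lib.WildFam.MinorRing

namespace Groth.Agent.Lib.WildFam.MinorRing

variable {p : ℕ} [Fact p.Prime] {k : Type u} [Field k] [CharP k p] {n : ℕ}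
  {a : Fin n → MvPowerSeries (Fin n) k} {μ : MvPowerSeries (Fin n) k}

/-- No `a i` vanishes. -/
theorem ne_zero (hn : 2 ≤ n) (ham : ∀ i, MvPowerSeries.constantCoeff (a i) = 0)
    (hcop : ∀ i j, i ≠ j → IsRelPrime (a i) (a j)) (i : Fin n) : a i ≠ 0 := by
  haveI : Nontrivial (Fin n) := Fin.nontrivial_iff_two_le.mpr hn
  obtain ⟨j, hj⟩ := exists_ne i
  intro h
  have h1 := hcop i j (Ne.symm hj)
  rw [h, isRelPrime_zero_left, MvPowerSeries.isUnit_iff_constantCoeff, ham j] at h1
  exact not_isUnit_zero h1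

/-- The domain property of the power series ring. -/
theorem isDomain (k : Type u) [Field k] (n : ℕ) : IsDomain (MvPowerSeries (Fin n) k) :=
  haveI := Groth.Agent.H24.PowerSeries.isRegularLocalRing_fin k n
  Groth.Agent.Lib.Regular.Quotient.isDomain _

end Groth.Agent.Lib.WildFam.MinorRing
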