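import Groth.Agent.Lib.WildFam.LinearFam
import Mathlib.Algebra.SkewMonoidAlgebra.Basic

/-!
# The skew group ring of the family is symmetric
-/

set_option autoImplicit false

universe u v

namespace Groth.Agent.Lib.WildFam.Symmetric

open Groth.Agent.Lib.WildFam.Minor Groth.Agent.Lib.WildFam.Basic

/-- A skew group ring is symmetric when the base carries an invariant dualising form. -/
theorem exists_form {R A G : Type*} [CommRing R] [CommRing A] [Algebra R A] [Group G] [Finite G]
    [MulSemiringAction G A] [SMulCommClass G R A] (lam : A →ₗ[R] R)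
    (hinv : ∀ (g : G) (a : A), lam (g • a) = lam a)
    (hinj : ∀ y : A, (∀ x, lam (x * y) = 0) → y = 0)
    (hsurj : ∀ ψ : A →ₗ[R] R, ∃ y, ∀ x, ψ x = lam (x * y)) :
    ∃ φ : SkewMonoidAlgebra A G →ₗ[R] R,
      (∀ x y : SkewMonoidAlgebra A G, φ (x * y) = φ (y * x)) ∧
      Function.Injective (fun y : SkewMonoidAlgebra A G => fun x : SkewMonoidAlgebra A G => φ (x * y)) ∧
      ∀ ψ : SkewMonoidAlgebra A G →ₗ[R] R, ∃ y : SkewMonoidAlgebra A G, ∀ x, ψ x = φ (x * y) := by
  classical
  haveI : Fintype G := Fintype.ofFinite G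
  let φ : SkewMonoidAlgebra A G →ₗ[R] R :=
    lam ∘ₗ (Finsupp.lapply 1) ∘ₗ (SkewMonoidAlgebra.coeffLinearEquiv (S := R) (k := A) (G := G)).toLinearMap
  have hφ : ∀ f, φ f = lam (f.coeff 1) := fun _ => rfl
  have hsingle : ∀ (g : G) (b : A) (y : SkewMonoidAlgebra A G),
      φ (SkewMonoidAlgebra.single g b * y) = lam (b * g • y.coeff g⁻¹) := fun g b y => by
    rw [hφ, SkewMonoidAlgebra.coeff_single_mul, mul_one]
  refine ⟨φ, fun x y => ?_, fun y y' hyy => ?_, fun ψ => ?_⟩
  · induction x using SkewMonoidAlgebra.induction_on with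
    | zero => rw [zero_mul, mul_zero]
    | single g b =>
      rw [hsingle, hφ, SkewMonoidAlgebra.coeff_mul_single, one_mul, ← hinv g (y.coeff g⁻¹ * g⁻¹ • b),
        smul_mul', smul_inv_smul, mul_comm]
    | add f f' hf hf' => rw [add_mul, mul_add, map_add, map_add, hf, hf']
  · refine SkewMonoidAlgebra.ext fun g => sub_eq_zero.mp (hinj _ fun x => ?_)
    have h := congrFun hyy (SkewMonoidAlgebra.single g⁻¹ (g⁻¹ • x))
    simp only [hsingle, inv_inv, ← smul_mul', hinv] at h
    rw [mul_sub, map_sub, h, sub_self]
  · choose t ht using fun g : G => hsurj (ψ ∘ₗ SkewMonoidAlgebra.lsingle R g)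
    refine ⟨∑ g : G, SkewMonoidAlgebra.single g⁻¹ (g⁻¹ • t g), fun x => ?_⟩
    induction x using SkewMonoidAlgebra.induction_on with
    | zero => rw [zero_mul, map_zero, map_zero]
    | add f f' hf hf' => rw [add_mul, map_add, map_add, hf, hf']
    | single g b =>
      rw [hsingle]
      have hcoef : (∑ g : G, SkewMonoidAlgebra.single g⁻¹ (g⁻¹ • t g)).coeff g⁻¹ = g⁻¹ • t g := by
        change SkewMonoidAlgebra.coeffAddEquiv _ g⁻¹ = _
        rw [map_sum, Finset.sum_apply', Finset.sum_eq_single g]
        · change (SkewMonoidAlgebra.single g⁻¹ (g⁻¹ • t g)).coeff g⁻¹ = _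
          rw [SkewMonoidAlgebra.coeff_single, Finsupp.single_eq_same]
        · intro h _ hne
          change (SkewMonoidAlgebra.single h⁻¹ (h⁻¹ • t h)).coeff g⁻¹ = 0
          rw [SkewMonoidAlgebra.coeff_single, Finsupp.single_eq_of_ne (fun e => hne (inv_injective e).symm)]
        · exact fun hn => absurd (Finset.mem_univ g) hn
      rw [hcoef, smul_inv_smul]
      exact ht g b

variable {R : Type u} [CommRing R] [IsDomain R] {p : ℕ} [hp : Fact p.Prime] {n : ℕ} {a x : Fin n → R}

/-- The basis of monomials. -/
noncomputable def basis : Module.Basis (Fin n → Fin p) R (Fam p a x) :=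
  Module.Basis.mk LinearFam.linearIndependent_mon
    (MinorCI.span_mon_quotient hp.out.two_le (fun i => a i ^ (p - 1)) x)

theorem coe_basis : ⇑(basis (p := p) (a := a) (x := x)) = mon (gen p a x) := Module.Basis.coe_mk _ _

/-- The top exponent. -/
def top : Fin n → Fin p := fun _ => Fin.rev ⟨0, hp.out.pos⟩

theorem top_val (i : Fin n) : (top (p := p) i : ℕ) = p - 1 := by simp [top, Fin.rev]

/-- The coefficient of the top monomial. -/
noncomputable def lam : Fam p a x →ₗ[R] R := (basis (p := p)).coord top

theorem lam_mon (e : Fin n → Fin p) : lam (mon (gen p a x) e) = if e = top then 1 else 0 := by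
  classical
  rw [lam, Module.Basis.coord_apply, ← coe_basis, Module.Basis.repr_self, Finsupp.single_apply]

theorem exists_expansion (i : Fin n) (m : ℕ) : ∃ K : Fin p → R,
    gen p a x i ^ m = ∑ l : Fin p, K l • gen p a x i ^ (l : ℕ) ∧
      ∀ h : m < p, K = fun l => if l = ⟨m, h⟩ then 1 else 0 := by
  classical
  by_cases h : m < p
  · refine ⟨fun l => if l = ⟨m, h⟩ then 1 else 0, ?_, fun _ => rfl⟩
    simp [ite_smul]
  · have hmem := mem_span_of_mem_adjoin (R := R) (fun _ : Unit => gen p a x i) (fun _ => a i ^ (p - 1))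
      (fun _ => x i) (fun _ => by rw [LinearFam.smul_eq]; linear_combination gen_rel p a x i)
      hp.out.two_le (pow_mem (Algebra.subset_adjoin (Set.mem_range_self ())) m)
    obtain ⟨c, hc⟩ := (Submodule.mem_span_range_iff_exists_fun R).mp hmem
    refine ⟨fun l => c fun _ => l, ?_, fun h' => absurd h' h⟩
    rw [← hc, ← Equiv.sum_comp (Equiv.funUnique Unit (Fin p)).symm]
    refine Finset.sum_congr rfl fun l _ => ?_
    simp [mon]
    rfl

/-- The product of two monomials has top coefficient the Kronecker delta in a triangular sense. -/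
theorem lam_prod (e e' : Fin n → Fin p) :
    ((∃ i, (e i : ℕ) + e' i < p - 1) → lam (mon (gen p a x) e * mon (gen p a x) e') = 0) ∧
    ((∀ i, (e i : ℕ) + e' i = p - 1) → lam (mon (gen p a x) e * mon (gen p a x) e') = 1) := by
  classical
  choose K hK hKd using fun i => exists_expansion (p := p) (a := a) (x := x) i ((e i : ℕ) + e' i)
  have hval : lam (mon (gen p a x) e * mon (gen p a x) e') = ∏ i, K i (top i) := by
    rw [mon, mon, ← Finset.prod_mul_distrib]
    simp only [← pow_add, hK, Finset.prod_univ_sum, Fintype.piFinset_univ, map_sum]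
    rw [Finset.sum_eq_single top]
    · rw [Finset.prod_smul, map_smul]
      have h1 : lam (∏ i, gen p a x i ^ (top (p := p) i : ℕ)) = (1 : R) := (lam_mon top).trans (if_pos rfl)
      rw [h1, smul_eq_mul, mul_one]
    · intro f _ hf
      rw [Finset.prod_smul, map_smul]
      have h1 : lam (∏ i, gen p a x i ^ (f i : ℕ)) = (0 : R) := (lam_mon f).trans (if_neg hf)
      rw [h1, smul_zero]
    · exact fun hn => absurd (Finset.mem_univ _) hn
  refine ⟨fun ⟨i, hi⟩ => ?_, fun hall => ?_⟩
  · rw [hval]
    refine Finset.prod_eq_zero (Finset.mem_univ i) ?_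
    rw [hKd i (by omega)]
    refine if_neg fun h => ?_
    have := congrArg Fin.val h
    rw [top_val] at this
    simp only at this
    omega
  · rw [hval]
    refine Finset.prod_eq_one fun i _ => ?_
    rw [hKd i (by have := hp.out.pos; have := hall i; omega)]
    exact if_pos (Fin.ext ((top_val i).trans (hall i).symm))

theorem surjective (ψ : Fam p a x →ₗ[R] R) : ∃ y, ∀ t, ψ t = lam (t * y) := by
  classical
  let D : Fam p a x →ₗ[R] (Fam p a x →ₗ[R] R) := ((LinearMap.mul R (Fam p a x)).compr₂ lam).flip
  suffices h : LinearMap.range D = ⊤ by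
    obtain ⟨y, hy⟩ := (h.symm ▸ Submodule.mem_top : ψ ∈ LinearMap.range D)
    exact ⟨y, fun t => (LinearMap.congr_fun hy t).symm⟩
  let B : Module.Basis (Fin n → Fin p) R (Fam p a x) := basis
  haveI : Finite (Fin n → Fin p) := inferInstance
  suffices h : ∀ m : ℕ, ∀ e : Fin n → Fin p, n * p ≤ m + ∑ i, (e i : ℕ) → B.coord e ∈ LinearMap.range D by
    refine eq_top_iff.mpr fun ψ' _ => ?_
    rw [show ψ' = ∑ e, ψ' (B e) • B.coord e from B.ext fun e => by simp [Finsupp.single_apply]]
    exact sum_mem fun e _ => Submodule.smul_mem _ _ (h (n * p) e (Nat.le_add_right _ _))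
  intro m
  induction m using Nat.strong_induction_on with
  | _ m ih =>
    intro e he
    let r : Fin n → Fin p := fun i => Fin.rev (e i)
    have hr : ∀ i, (e i : ℕ) + r i = p - 1 := fun i => by
      have := (e i).2
      simp only [r, Fin.val_rev]
      omega
    have hexp : D (mon (gen p a x) r) =
        ∑ e', lam (mon (gen p a x) e' * mon (gen p a x) r) • B.coord e' := by
      refine B.ext fun e'' => ?_
      rw [LinearMap.sum_apply, Finset.sum_eq_single e'']
      · rw [LinearMap.smul_apply, Module.Basis.coord_apply, Module.Basis.repr_self, Finsupp.single_eq_same,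
          smul_eq_mul, mul_one]
        change lam (B e'' * mon (gen p a x) r) = _
        simp only [B, coe_basis]
      · intro l _ hl
        rw [LinearMap.smul_apply, Module.Basis.coord_apply, Module.Basis.repr_self,
          Finsupp.single_eq_of_ne hl, smul_eq_mul, mul_zero]
      · exact fun hn => absurd (Finset.mem_univ _) hn
    rw [← Finset.add_sum_erase _ _ (Finset.mem_univ e), (lam_prod e r).2 hr, one_smul] at hexp
    rw [eq_sub_of_add_eq hexp.symm]
    refine sub_mem (LinearMap.mem_range_self D _) (sum_mem fun e' he' => ?_)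
    by_cases hsmall : ∃ i, (e' i : ℕ) + r i < p - 1
    · rw [(lam_prod e' r).1 hsmall, zero_smul]; exact zero_mem _
    refine Submodule.smul_mem _ _ ?_
    push Not at hsmall
    have hlt : ∑ i, (e i : ℕ) < ∑ i, (e' i : ℕ) := by
      refine Finset.sum_lt_sum (fun i _ => ?_) ?_
      · have := hsmall i; have := hr i; omega
      · by_contra hcon
        push Not at hcon
        refine Finset.ne_of_mem_erase he' (funext fun i => Fin.ext ?_)
        have := hsmall i; have := hr i; have := hcon i (Finset.mem_univ i); omega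
    have hb : ∑ i, (e' i : ℕ) ≤ n * p := (Finset.sum_le_sum (f := fun i => (e' i : ℕ)) (g := fun _ => p)
      fun i _ => (e' i).2.le).trans (by simp)
    exact ih (n * p - ∑ i, (e' i : ℕ)) (by omega) e' (by omega)

theorem injective (y : Fam p a x) (hy : ∀ t, lam (t * y) = 0) : y = 0 := by
  classical
  refine (basis (p := p) (a := a) (x := x)).forall_coord_eq_zero_iff.mp fun e => ?_
  obtain ⟨z, hz⟩ := surjective ((basis (p := p) (a := a) (x := x)).coord e)
  rw [hz y, mul_comm]
  exact hy z

/-- The filtration by total degree. -/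
noncomputable def low (k : ℕ) : Submodule R (Fam p a x) :=
  Submodule.span R (mon (p := p) (gen p a x) '' {e | ∑ i, (e i : ℕ) < k})

theorem mul_gen_mem (i : Fin n) {k : ℕ} {t : Fam p a x} (ht : t ∈ low k) :
    t * gen p a x i ∈ low (k + 1) := by
  classical
  induction ht using Submodule.span_induction with
  | zero => rw [zero_mul]; exact zero_mem _
  | add y z _ _ hy hz => rw [add_mul]; exact add_mem hy hz
  | smul r y _ hy => rw [smul_mul_assoc]; exact Submodule.smul_mem _ r hy
  | mem y hy =>
    obtain ⟨e, he, rfl⟩ := hy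
    replace he : ∑ j, (e j : ℕ) < k := he
    rw [← Finset.add_sum_erase _ _ (Finset.mem_univ i)] at he
    by_cases hlt : (e i : ℕ) + 1 < p
    · rw [Linear.mon_mul _ e i hlt]
      refine Submodule.subset_span ⟨_, ?_, rfl⟩
      change ∑ j, _ < k + 1
      rw [← Finset.add_sum_erase _ _ (Finset.mem_univ i), Function.update_self,
        Finset.sum_congr rfl fun j hj => by rw [Function.update_of_ne (Finset.ne_of_mem_erase hj)]]
      simp only at he ⊢
      omega
    · have heq : (e i : ℕ) + 1 = p := by have := (e i).2; omega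
      rw [← Function.update_eq_self i e, Linear.mon_update, mul_right_comm, ← pow_succ, heq,
        show gen p a x i ^ p = a i ^ (p - 1) • gen p a x i + algebraMap R _ (x i) by
          rw [LinearFam.smul_eq]; linear_combination gen_rel p a x i,
        add_mul, smul_mul_assoc, ← LinearFam.smul_eq]
      have h2 := hp.out.two_le
      refine add_mem (Submodule.smul_mem _ _ ?_) (Submodule.smul_mem _ _ ?_)
      · rw [← pow_one (gen p a x i), show (1 : ℕ) = ((⟨1, hp.out.one_lt⟩ : Fin p) : ℕ) from rfl,
          ← Linear.mon_update]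
        refine Submodule.subset_span ⟨_, ?_, rfl⟩
        change ∑ j, _ < k + 1
        rw [← Finset.add_sum_erase _ _ (Finset.mem_univ i), Function.update_self,
          Finset.sum_congr rfl fun j hj => by rw [Function.update_of_ne (Finset.ne_of_mem_erase hj)]]
        simp only at he ⊢
        omega
      · rw [← one_mul (∏ j ∈ _, _), ← pow_zero (gen p a x i),
          show (0 : ℕ) = ((⟨0, hp.out.pos⟩ : Fin p) : ℕ) from rfl, ← Linear.mon_update]
        refine Submodule.subset_span ⟨_, ?_, rfl⟩
        change ∑ j, _ < k + 1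
        rw [← Finset.add_sum_erase _ _ (Finset.mem_univ i), Function.update_self,
          Finset.sum_congr rfl fun j hj => by rw [Function.update_of_ne (Finset.ne_of_mem_erase hj)]]
        simp only at he ⊢
        omega

theorem low_mono {k l : ℕ} (h : k ≤ l) : low (p := p) (a := a) (x := x) k ≤ low l :=
  Submodule.span_mono (Set.image_mono fun _ he => lt_of_lt_of_le he h)

theorem map_mon_sub_mem (σ : Fam p a x →ₐ[R] Fam p a x) (b : Fin n → R)
    (hσ : ∀ i, σ (gen p a x i) = gen p a x i + algebraMap R _ (b i)) :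
    ∀ (k : ℕ) (e : Fin n → Fin p), ∑ i, (e i : ℕ) = k →
      σ (mon (gen p a x) e) - mon (gen p a x) e ∈ low k := by
  classical
  intro k
  induction k with
  | zero =>
    intro e he
    have h1 : mon (gen p a x) e = 1 := Finset.prod_eq_one fun i _ => by
      rw [(Finset.sum_eq_zero_iff).mp he i (Finset.mem_univ i), pow_zero]
    rw [h1, map_one, sub_self]
    exact zero_mem _
  | succ k ih =>
    intro e he
    obtain ⟨i, -, hi⟩ := Finset.exists_ne_zero_of_sum_ne_zero (f := fun i => (e i : ℕ))
      (s := Finset.univ) (by omega)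
    replace hi : (e i : ℕ) ≠ 0 := hi
    have hep := (e i).2
    let e' : Fin n → Fin p := Function.update e i ⟨(e i : ℕ) - 1, by omega⟩
    have hei : (e' i : ℕ) + 1 = (e i : ℕ) := by simp [e']; omega
    have he' : ∑ j, (e' j : ℕ) = k := by
      rw [← Finset.add_sum_erase _ _ (Finset.mem_univ i)] at he ⊢
      rw [Finset.sum_congr rfl fun j hj => by
        simp only [e', Function.update_of_ne (Finset.ne_of_mem_erase hj)]; rfl]
      omega
    have hmon : mon (gen p a x) e = mon (gen p a x) e' * gen p a x i := by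
      rw [Linear.mon_mul _ e' i (by omega)]
      congr 1
      funext j
      by_cases hj : j = i
      · subst hj; rw [Function.update_self]; exact Fin.ext hei.symm
      · rw [Function.update_of_ne hj]; simp [e', Function.update_of_ne hj]
    have hmem : mon (gen p a x) e' ∈ low (p := p) (a := a) (x := x) (k + 1) :=
      Submodule.subset_span ⟨e', by change ∑ j, _ < k + 1; omega, rfl⟩
    have hd := ih e' he'
    rw [hmon, map_mul, hσ, show σ (mon (gen p a x) e') * (gen p a x i + algebraMap R _ (b i)) -
        mon (gen p a x) e' * gen p a x i = (σ (mon (gen p a x) e') - mon (gen p a x) e') * gen p a x i +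
        b i • ((σ (mon (gen p a x) e') - mon (gen p a x) e') + mon (gen p a x) e') by
      rw [LinearFam.smul_eq]; ring]
    exact add_mem (mul_gen_mem i hd) (Submodule.smul_mem _ _ (add_mem (low_mono k.le_succ hd) hmem))

theorem lam_map (σ : Fam p a x →ₐ[R] Fam p a x) (b : Fin n → R)
    (hσ : ∀ i, σ (gen p a x i) = gen p a x i + algebraMap R _ (b i)) (t : Fam p a x) :
    lam (σ t) = lam t := by
  classical
  suffices h : lam ∘ₗ σ.toLinearMap = (lam : Fam p a x →ₗ[R] R) from LinearMap.congr_fun h t
  refine (basis (p := p) (a := a) (x := x)).ext fun e => ?_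
  rw [LinearMap.comp_apply, coe_basis]
  have h0 : lam (σ (mon (gen p a x) e) - mon (gen p a x) e) = 0 := by
    refine (Submodule.span_le.mpr ?_ : low (p := p) (a := a) (x := x) (∑ i, (e i : ℕ)) ≤ LinearMap.ker lam)
      (map_mon_sub_mem σ b hσ _ e rfl)
    rintro _ ⟨e', he', rfl⟩
    rw [SetLike.mem_coe, LinearMap.mem_ker, lam_mon, if_neg]
    rintro rfl
    refine absurd (show (∑ i : Fin n, (top (p := p) i : ℕ)) < ∑ i, (e i : ℕ) from he') (not_lt.mpr (Finset.sum_le_sum fun i _ => ?_))
    rw [top_val]; have := (e i).2; omega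
  rwa [map_sub, sub_eq_zero] at h0

end Groth.Agent.Lib.WildFam.Symmetric
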